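import Mathlib
import Cfsg.Prelude.Def_LieExceptional
import Cfsg.Agent.Lib.Cores.Fitting

/-!
# CN-groups: centralisers of prime power elements and maximal nilpotent Hall subgroups

`CentIn M`: `C(x) ≤ M` for all `x ∈ M#`.
`PType p`: every element of prime power order `p^k > 1` has a `p`-group as centraliser.
-/

set_option linter.style.haveILetI false

namespace Cfsg.Agent.CN

open Subgroup

variable {G : Type*} [Group G]

/-- `M` contains the centraliser of each of its non-identity elements. -/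
def CentIn (M : Subgroup G) : Prop :=
  ∀ x ∈ M, x ≠ 1 → Subgroup.centralizer ({x} : Set G) ≤ M

/-- Centralisers of nontrivial `p`-elements are `p`-groups. -/
def PType (p : ℕ) (G : Type*) [Group G] : Prop :=
  ∀ x : G, x ≠ 1 → IsPGroup p (Subgroup.zpowers x) →
    IsPGroup p (Subgroup.centralizer ({x} : Set G))

theorem mem_cent_iff {x y : G} : y ∈ Subgroup.centralizer ({x} : Set G) ↔ y * x = x * y :=
  Subgroup.mem_centralizer_singleton_iff

theorem self_mem_cent (x : G) : x ∈ Subgroup.centralizer ({x} : Set G) :=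
  mem_cent_iff.2 rfl

theorem isNilpotent_le {K L : Subgroup G} (hKL : K ≤ L) (h : Group.IsNilpotent L) :
    Group.IsNilpotent K :=
  haveI := h
  Group.nilpotent_of_mulEquiv (Subgroup.subgroupOfEquivOfLe hKL)

/-- The unique Sylow `p`-subgroup of a nilpotent subgroup contains all its `p`-elements. -/
theorem mem_sylow_of_nilpotent [Finite G] {p : ℕ} [Fact p.Prime] {C : Subgroup G}
    (hC : Group.IsNilpotent C) {P : Sylow p G} (hP : (P : Subgroup G) ≤ C) {x : G} (hx : x ∈ C)
    (hxp : IsPGroup p (Subgroup.zpowers x)) : x ∈ P := by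
  haveI := hC
  have hn : ((P.subtype hP : Sylow p C) : Subgroup C).Normal :=
    (Group.isNilpotent_of_finite_tfae.out 0 3 rfl rfl).1 hC p inferInstance (P.subtype hP)
  haveI := Sylow.unique_of_normal (P.subtype hP) hn
  have hxC : IsPGroup p (Subgroup.zpowers (⟨x, hx⟩ : C)) := by
    refine IsPGroup.of_equiv hxp (MulEquiv.symm ?_)
    exact (Subgroup.equivMapOfInjective _ C.subtype C.subtype_injective).trans
      (MulEquiv.subgroupCongr (by rw [MonoidHom.map_zpowers]; rfl))
  obtain ⟨Q, hQ⟩ := hxC.exists_le_sylow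
  rw [Subsingleton.elim Q (P.subtype hP)] at hQ
  exact hQ (Subgroup.mem_zpowers _)

/-- Elements of coprime order in a nilpotent group commute. -/
theorem commute_of_coprime_group {H : Type*} [Group H] [hH : Group.IsNilpotent H] :
    ∀ a b : H, (orderOf a).Coprime (orderOf b) → Commute a b := by
  refine @Group.nilpotent_center_quotient_ind
    (P := fun H _ _ => ∀ a b : H, (orderOf a).Coprime (orderOf b) → Commute a b) H _ hH ?_ ?_
  · intro H _ _ a b _
    exact Subsingleton.elim _ _
  · intro H _ _ ih a b hab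
    have h1 := ih (QuotientGroup.mk a) (QuotientGroup.mk b)
      ((hab.coprime_dvd_left (orderOf_map_dvd (QuotientGroup.mk' _) a)).coprime_dvd_right
        (orderOf_map_dvd (QuotientGroup.mk' _) b))
    set c := (a * b) * (b * a)⁻¹ with hc
    have hcZ : c ∈ Subgroup.center H := by
      rw [← QuotientGroup.eq_one_iff]
      simp only [c, QuotientGroup.mk_mul, QuotientGroup.mk_inv]
      rw [h1.eq, mul_inv_cancel]
    have hcen : ∀ y : H, Commute c y := fun y => (Subgroup.mem_center_iff.1 hcZ y).symm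
    have hconj : a * b * a⁻¹ = c * b := by simp [c, mul_assoc]
    have hconj' : b * a⁻¹ * b⁻¹ = a⁻¹ * c := by simp [c, mul_assoc]
    have hb : c ^ orderOf b = 1 := by
      have h := congrArg (· ^ orderOf b) hconj
      simpa [conj_pow, (hcen b).mul_pow, pow_orderOf_eq_one] using h.symm
    have ha : c ^ orderOf a = 1 := by
      have h := congrArg (· ^ orderOf a) hconj'
      simpa [conj_pow, (hcen a⁻¹).symm.mul_pow, pow_orderOf_eq_one, inv_pow] using h.symm
    have h2 : c = 1 := orderOf_eq_one_iff.1 (Nat.eq_one_of_dvd_coprimes hab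
      (orderOf_dvd_of_pow_eq_one ha) (orderOf_dvd_of_pow_eq_one hb))
    exact mul_inv_eq_one.1 (hc ▸ h2)

/-- Elements of coprime order in a nilpotent subgroup commute. -/
theorem commute_of_coprime [Finite G] {C : Subgroup G} (hC : Group.IsNilpotent C) {a b : G}
    (ha : a ∈ C) (hb : b ∈ C) (h : (orderOf a).Coprime (orderOf b)) : a * b = b * a :=
  congrArg Subtype.val (commute_of_coprime_group (hH := hC) (⟨a, ha⟩ : C) ⟨b, hb⟩
    (by simpa [Subgroup.orderOf_mk] using h)).eq

theorem coprime_orderOf_of_isPGroup [Finite G] {p q : ℕ} [Fact p.Prime] [Fact q.Prime] (hpq : p ≠ q)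
    {H K : Subgroup G} (hH : IsPGroup p H) (hK : IsPGroup q K) {a b : G} (ha : a ∈ H) (hb : b ∈ K) :
    (orderOf a).Coprime (orderOf b) :=
  ((IsPGroup.coprime_card_of_ne q p hpq.symm K H hK hH).symm.coprime_dvd_left
    (Subgroup.orderOf_dvd_natCard H ha)).coprime_dvd_right (Subgroup.orderOf_dvd_natCard K hb)

/-- A subgroup all of whose Sylow subgroups lie in `K` lies in `K`. -/
theorem le_of_forall_isPGroup [Finite G] {C K : Subgroup G}
    (h : ∀ q : ℕ, q.Prime → ∀ x ∈ C, IsPGroup q (Subgroup.zpowers x) → x ∈ K) : C ≤ K := by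
  rw [← Subgroup.subgroupOf_eq_top]
  refine Cfsg.Agent.Cores.eq_top_of_sylow_le fun q hq hdvd => ?_
  haveI := hq
  obtain ⟨S⟩ : Nonempty (Sylow q C) := inferInstance
  refine ⟨S, fun x hx => ?_⟩
  rw [Subgroup.mem_subgroupOf]
  refine h q hq x x.2 ?_
  refine (S.isPGroup'.map C.subtype).to_le ?_
  rw [Subgroup.zpowers_le]
  exact Subgroup.mem_map_of_mem _ hx

variable [Finite G] (hCN : Cfsg.IsCNGroup G) {p : ℕ} [hp : Fact p.Prime] {P : Sylow p G}
include hCN

/-- If the Sylow subgroup `P` centralises `w`, then `C(w) ≤ C(z)` for every central `z` of `P`. -/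
theorem cent_le_cent {z w : G} (hzP : z ∈ P) (hzc : ∀ y ∈ P, y * z = z * y) (hw : w ≠ 1)
    (hPw : (P : Subgroup G) ≤ Subgroup.centralizer ({w} : Set G)) :
    Subgroup.centralizer ({w} : Set G) ≤ Subgroup.centralizer ({z} : Set G) := by
  refine le_of_forall_isPGroup fun q hq x hx hxq => mem_cent_iff.2 ?_
  haveI := Fact.mk hq
  rcases eq_or_ne q p with rfl | hne
  · exact hzc x (mem_sylow_of_nilpotent (hCN w hw) hPw hx hxq)
  · exact commute_of_coprime (hCN w hw) hx (hPw hzP)
      (coprime_orderOf_of_isPGroup hne hxq P.isPGroup' (Subgroup.mem_zpowers x) hzP)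

omit hCN in
theorem exists_central (hP : (P : Subgroup G) ≠ ⊥) :
    ∃ z ∈ P, z ≠ 1 ∧ ∀ y ∈ P, y * z = z * y := by
  haveI : Nontrivial (P : Subgroup G) := (Subgroup.nontrivial_iff_ne_bot _).2 hP
  haveI := IsPGroup.center_nontrivial P.isPGroup'
  obtain ⟨⟨⟨z, hzP⟩, hzc⟩, hz1⟩ := exists_ne (1 : Subgroup.center (P : Subgroup G))
  refine ⟨z, hzP, fun h => hz1 (Subtype.ext (Subtype.ext h)), fun y hy => ?_⟩
  exact congrArg Subtype.val (Subgroup.mem_center_iff.1 hzc ⟨y, hy⟩)

/-- `C(z)` is a Hall subgroup for a central element `z` of a Sylow subgroup: each prime dividing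
its order has a Sylow subgroup inside it. -/
theorem exists_sylow_le {z : G} (hzP : z ∈ P) (hz : z ≠ 1) (hzc : ∀ y ∈ P, y * z = z * y) {q : ℕ}
    [hq : Fact q.Prime] (hdvd : q ∣ Nat.card (Subgroup.centralizer ({z} : Set G))) :
    ∃ Q : Sylow q G, (Q : Subgroup G) ≤ Subgroup.centralizer ({z} : Set G) := by
  set M := Subgroup.centralizer ({z} : Set G)
  have hPM : (P : Subgroup G) ≤ M := fun y hy => mem_cent_iff.2 (hzc y hy)
  rcases eq_or_ne q p with rfl | hne
  · exact ⟨P, hPM⟩
  obtain ⟨⟨v, hvM⟩, hvo⟩ := exists_prime_orderOf_dvd_card' q hdvd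
  rw [Subgroup.orderOf_mk] at hvo
  have hv : v ≠ 1 := fun h => hq.out.ne_one (by rw [← hvo, h, orderOf_one])
  have hvq : IsPGroup q (Subgroup.zpowers v) :=
    IsPGroup.of_card (n := 1) (by rw [Nat.card_zpowers, hvo, pow_one])
  obtain ⟨Q, hQ⟩ := hvq.exists_le_sylow
  refine ⟨Q, ?_⟩
  have hQne : (Q : Subgroup G) ≠ ⊥ := fun h => hv (Subgroup.mem_bot.1 (h ▸ hQ (Subgroup.mem_zpowers v)))
  obtain ⟨u, huQ, hu, huc⟩ := exists_central (P := Q) hQne
  have hPv : ∀ y ∈ P, y * v = v * y := fun y hy =>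
    commute_of_coprime (hCN z hz) (hPM hy) hvM
      (coprime_orderOf_of_isPGroup hne.symm P.isPGroup' hvq hy (Subgroup.mem_zpowers v))
  have hPu : ∀ y ∈ P, y * u = u * y := fun y hy =>
    commute_of_coprime (hCN v hv) (mem_cent_iff.2 (hPv y hy))
      (mem_cent_iff.2 (huc v (hQ (Subgroup.mem_zpowers v))).symm)
      (coprime_orderOf_of_isPGroup hne.symm P.isPGroup' Q.isPGroup' hy huQ)
  intro t ht
  exact mem_cent_iff.2 (commute_of_coprime (hCN u hu) (mem_cent_iff.2 (huc t ht))
    (mem_cent_iff.2 (hPu z hzP))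
    (coprime_orderOf_of_isPGroup hne Q.isPGroup' P.isPGroup' ht hzP))

theorem coprime_index_cent {z : G} (hzP : z ∈ P) (hz : z ≠ 1) (hzc : ∀ y ∈ P, y * z = z * y) :
    (Nat.card (Subgroup.centralizer ({z} : Set G))).Coprime
      (Subgroup.centralizer ({z} : Set G)).index := by
  refine Nat.coprime_of_dvd fun q hq h1 h2 => ?_
  haveI := Fact.mk hq
  obtain ⟨Q, hQ⟩ := exists_sylow_le hCN hzP hz hzc h1
  exact Q.not_dvd_index (h2.trans (Subgroup.index_dvd_of_le hQ))

/-- Either `C(z)` is self-centralising in the strong sense or `p`-elements have `p`-centralisers. -/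
theorem centIn_or_pType {z : G} (hzP : z ∈ P) (hz : z ≠ 1) (hzc : ∀ y ∈ P, y * z = z * y) :
    CentIn (Subgroup.centralizer ({z} : Set G)) ∨ PType p G := by
  set M := Subgroup.centralizer ({z} : Set G) with hMdef
  have hPM : (P : Subgroup G) ≤ M := fun y hy => mem_cent_iff.2 (hzc y hy)
  by_cases hq : ∃ q : ℕ, q.Prime ∧ q ≠ p ∧ q ∣ Nat.card M
  · left
    obtain ⟨q, hq, hne, hdvd⟩ := hq
    haveI := Fact.mk hq
    obtain ⟨Q, hQ⟩ := exists_sylow_le hCN hzP hz hzc hdvd
    have hQne : (Q : Subgroup G) ≠ ⊥ := by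
      intro h
      have := Q.dvd_card_of_dvd_card (hdvd.trans (Subgroup.card_subgroup_dvd_card M))
      rw [h, Subgroup.card_bot] at this
      exact hq.ne_one (Nat.dvd_one.1 this)
    obtain ⟨u, huQ, hu, huc⟩ := exists_central (P := Q) hQne
    intro x hx hx1
    obtain ⟨r, hr, hrx⟩ := Nat.exists_prime_and_dvd (mt orderOf_eq_one_iff.1 hx1)
    haveI := Fact.mk hr
    set x' := x ^ (orderOf x / r) with hx'
    have hox' : orderOf x' = r :=
      orderOf_pow_orderOf_div (orderOf_pos x).ne' hrx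
    have hx'1 : x' ≠ 1 := fun h => hr.ne_one (by rw [← hox', h, orderOf_one])
    have hx'M : x' ∈ M := pow_mem hx _
    have hx'r : IsPGroup r (Subgroup.zpowers x') :=
      IsPGroup.of_card (n := 1) (by rw [Nat.card_zpowers, hox', pow_one])
    refine le_trans (b := Subgroup.centralizer ({x'} : Set G)) ?_ ?_
    · intro t ht
      exact mem_cent_iff.2 ((Commute.pow_right (mem_cent_iff.1 ht) _).eq)
    have hM := hCN z hz
    rcases eq_or_ne r p with rfl | hrp
    · have hQx : (Q : Subgroup G) ≤ Subgroup.centralizer ({x'} : Set G) := fun t ht =>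
        mem_cent_iff.2 (commute_of_coprime hM (hQ ht) hx'M
          (coprime_orderOf_of_isPGroup hne Q.isPGroup' hx'r ht (Subgroup.mem_zpowers x')))
      have hPu : (P : Subgroup G) ≤ Subgroup.centralizer ({u} : Set G) := fun y hy =>
        mem_cent_iff.2 (commute_of_coprime hM (hPM hy) (hQ huQ)
          (coprime_orderOf_of_isPGroup hne.symm P.isPGroup' Q.isPGroup' hy huQ))
      exact (cent_le_cent hCN huQ huc hx'1 hQx).trans (cent_le_cent hCN hzP hzc hu hPu)
    · exact cent_le_cent hCN hzP hzc hx'1 fun y hy =>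
        mem_cent_iff.2 (commute_of_coprime hM (hPM hy) hx'M
          (coprime_orderOf_of_isPGroup hrp.symm P.isPGroup' hx'r hy (Subgroup.mem_zpowers x')))
  · right
    push Not at hq
    have hMp : IsPGroup p M := IsPGroup.of_card (n := (Nat.card M).primeFactorsList.length)
      (Nat.eq_prime_pow_of_unique_prime_dvd Nat.card_pos.ne' fun {d} hd hdvd => by
        by_contra h; exact hq d hd h hdvd)
    intro x hx hxp
    obtain ⟨P', hP'⟩ := hxp.exists_le_sylow
    obtain ⟨g, hg⟩ := MulAction.exists_smul_eq G P P'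
    -- the conjugate of `z` is central in `P'`
    have hmem : ∀ y, y ∈ P' ↔ g⁻¹ * y * g ∈ P := fun y => by
      rw [← hg]
      show y ∈ ((g • P : Sylow p G) : Subgroup G) ↔ _
      rw [Sylow.coe_subgroup_smul, Subgroup.mem_pointwise_smul_iff_inv_smul_mem]
      simp [mul_assoc]
      exact Iff.rfl
    set z' := g * z * g⁻¹ with hz'
    have hz'P : z' ∈ P' := by rw [hmem]; simpa [hz', mul_assoc] using hzP
    have hz'c : z' * x = x * z' := by
      have := hzc _ ((hmem x).1 (hP' (Subgroup.mem_zpowers x)))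
      rw [hz']
      calc g * z * g⁻¹ * x = g * (z * (g⁻¹ * x * g)) * g⁻¹ := by group
        _ = g * ((g⁻¹ * x * g) * z) * g⁻¹ := by rw [this]
        _ = x * (g * z * g⁻¹) := by group
    intro t
    by_contra hcon
    obtain ⟨r, hr, hne, hdvd⟩ : ∃ r, r.Prime ∧ r ≠ p ∧ r ∣ orderOf (t : G) := by
      by_contra h
      push Not at h
      refine hcon ⟨(orderOf (t : G)).primeFactorsList.length, ?_⟩
      have h1 := Nat.eq_prime_pow_of_unique_prime_dvd (p := p) (orderOf_pos (t : G)).ne'
        fun {d} hd hdvd => by by_contra h'; exact h d hd h' hdvd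
      exact Subtype.ext (by rw [SubmonoidClass.coe_pow, ← h1, pow_orderOf_eq_one]; rfl)
    haveI := Fact.mk hr
    set t' := (t : G) ^ (orderOf (t : G) / r) with ht'
    have hot' : orderOf t' = r := orderOf_pow_orderOf_div (orderOf_pos _).ne' hdvd
    have ht'x : t' ∈ Subgroup.centralizer ({x} : Set G) := pow_mem t.2 _
    have hcop : (orderOf t').Coprime (orderOf z') :=
      ((coprime_orderOf_of_isPGroup hne
        (IsPGroup.of_card (n := 1) (by rw [Nat.card_zpowers, hot', pow_one]))
        P'.isPGroup' (Subgroup.mem_zpowers t') hz'P))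
    have hcomm := commute_of_coprime (hCN x hx) ht'x (mem_cent_iff.2 hz'c) hcop
    have htM : g⁻¹ * t' * g ∈ M := by
      rw [hMdef, mem_cent_iff]
      rw [hz'] at hcomm
      calc g⁻¹ * t' * g * z = g⁻¹ * (t' * (g * z * g⁻¹)) * g := by group
        _ = g⁻¹ * ((g * z * g⁻¹) * t') * g := by rw [hcomm]
        _ = z * (g⁻¹ * t' * g) := by group
    have h1 : orderOf (g⁻¹ * t' * g) = r := by
      rw [show g⁻¹ * t' * g = MulAut.conj g⁻¹ t' by simp, MulEquiv.orderOf_eq, hot']
    exact hq r hr hne (h1 ▸ Subgroup.orderOf_dvd_natCard M htM)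

omit hCN [Finite G] hp in
/-- Two nilpotent subgroups containing the centralisers of their non-identity elements are equal
or meet trivially. -/
theorem eq_of_meet {M M' : Subgroup G} (hn : Group.IsNilpotent M) (hn' : Group.IsNilpotent M')
    (hM : CentIn M) (hM' : CentIn M') {y : G} (hy : y ∈ M) (hy' : y ∈ M') (hy1 : y ≠ 1) :
    M = M' := by
  suffices key : ∀ {A B : Subgroup G}, Group.IsNilpotent A → CentIn B → y ∈ A → y ∈ B → A ≤ B from
    le_antisymm (key hn hM' hy hy') (key hn' hM hy' hy)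
  intro A B hA hB hyA hyB
  haveI := hA
  haveI : Nontrivial A := ⟨⟨y, hyA⟩, 1, fun h => hy1 (congrArg Subtype.val h)⟩
  obtain ⟨⟨⟨w, hwA⟩, hwc⟩, hw1⟩ := (Subgroup.ne_bot_iff_exists_ne_one).1
    (Group.IsNilpotent.center_ne_bot A)
  have hwB : w ∈ B := hB y hyB hy1 (mem_cent_iff.2
    (congrArg Subtype.val (Subgroup.mem_center_iff.1 hwc ⟨y, hyA⟩)).symm)
  have hw : w ≠ 1 := fun h => hw1 (Subtype.ext (Subtype.ext h))
  exact fun a ha => hB w hwB hw (mem_cent_iff.2
    (congrArg Subtype.val (Subgroup.mem_center_iff.1 hwc ⟨a, ha⟩)))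

end Cfsg.Agent.CN
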