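import Mathlib
import Cfsg.Agent.Lib.Characters.CentralIndex

/-!
# A small nonlinear irreducible character of a non-abelian nilpotent group

If `M` is finite nilpotent and not abelian then some irreducible character `θ` has
`1 < θ(1)` and `θ(1)² ∣ [M : M']`.
-/

set_option linter.style.haveILetI false

namespace Cfsg.Agent.CN

open Module Cfsg.Agent.Characters
open scoped ComplexConjugate

universe u

variable {G : Type u} [Group G] [Finite G]

/-- `χ(1)² ≤ [G : Z(G)]`. -/
theorem degree_sq_le_center_index {χ : G → ℂ} (h : Cfsg.IsIrrCharacter G χ) {n : ℕ}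
    (hn : χ 1 = (n : ℂ)) : n ^ 2 ≤ (Subgroup.center G).index := by
  classical
  haveI := Fintype.ofFinite G
  obtain ⟨d, ρ, hρ, rfl⟩ := h
  have hd : finrank ℂ (Fin d → ℂ) = n := by exact_mod_cast ρ.char_one.symm.trans hn
  have hn0 : 0 < n := hd ▸ finrank_pos_of_isIrreducible ρ
  have hnorm : ∑ g : G, ‖ρ.character g‖ ^ 2 = (Nat.card G : ℝ) := by
    have h1 := classInner_isIrr_self (isIrrCharacter_character ρ)
    rw [classInner_def, inv_mul_eq_one₀ natCard_ne_zero] at h1
    apply Complex.ofReal_injective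
    push_cast
    rw [h1]
    exact Finset.sum_congr rfl fun g _ => (Complex.mul_conj' _).symm
  set Z := Subgroup.center G
  have hZ : ∀ g ∈ Finset.univ.filter (· ∈ Z), ‖ρ.character g‖ ^ 2 = (n : ℝ) ^ 2 := by
    intro g hg
    obtain ⟨c, hc⟩ := schur_scalar ρ (ρ g) fun a v => by
      rw [← Module.End.mul_apply, ← Module.End.mul_apply, ← map_mul, ← map_mul,
        Subgroup.mem_center_iff.1 (Finset.mem_filter.1 hg).2 a]
    have hk : ∀ k : ℕ, ρ.character (g ^ k) = c ^ k * n := by
      intro k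
      have : ρ (g ^ k) = c ^ k • LinearMap.id := by
        induction k with
        | zero => simp [Module.End.one_eq_id]
        | succ k ih =>
          rw [pow_succ, map_mul, ih, hc, pow_succ]
          simp [Module.End.mul_eq_comp, smul_smul, mul_comm]
      simp [Representation.character, this, ← hd]
    have h1 := hk (orderOf g)
    rw [pow_orderOf_eq_one, hn] at h1
    have h2 : c ^ orderOf g = 1 :=
      mul_right_cancel₀ (Nat.cast_ne_zero.2 hn0.ne') (h1.symm.trans (one_mul _).symm)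
    have h3 := hk 1
    rw [pow_one, pow_one] at h3
    rw [h3, norm_mul, Complex.norm_eq_one_of_pow_eq_one h2 (orderOf_pos g).ne', one_mul,
      Complex.norm_natCast]
  have h1 : ((Finset.univ.filter (· ∈ Z)).card : ℝ) * (n : ℝ) ^ 2 ≤ Nat.card G := by
    rw [← hnorm, ← nsmul_eq_mul, ← Finset.sum_const, ← Finset.sum_congr rfl hZ]
    exact Finset.sum_le_sum_of_subset_of_nonneg (Finset.subset_univ _) fun g _ _ => sq_nonneg _
  rw [show (Finset.univ.filter (· ∈ Z)).card = Nat.card Z by
    rw [Nat.card_eq_fintype_card, ← Fintype.card_subtype], ← Z.card_mul_index] at h1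
  have h2 : Nat.card Z * n ^ 2 ≤ Nat.card Z * Z.index := by exact_mod_cast h1
  exact Nat.le_of_mul_le_mul_left h2 Nat.card_pos

/-- A non-abelian nilpotent group has a nonlinear irreducible character `θ` with
`θ(1)² ∣ [M : M']`. -/
theorem exists_nonlinear_sq_dvd [Group.IsNilpotent G] (hnc : commutator G ≠ ⊥) :
    ∃ (θ : Cfsg.IrrCharacter G) (f : ℕ), (θ : G → ℂ) 1 = (f : ℂ) ∧ 1 < f ∧
      f ^ 2 ∣ (commutator G).index := by
  classical
  obtain ⟨K, -, ⟨hKn, hKc⟩, hmax⟩ := Set.Finite.exists_le_maximal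
    (Set.toFinite {K : Subgroup G | K.Normal ∧ ¬ commutator G ≤ K}) (a := (⊥ : Subgroup G))
    ⟨inferInstance, fun h => hnc (le_bot_iff.1 h)⟩
  haveI := hKn
  set π := QuotientGroup.mk' K
  have hπ : Function.Surjective π := QuotientGroup.mk'_surjective K
  have hcQ : (commutator G).map π = commutator (G ⧸ K) := by
    rw [commutator_def, commutator_def, Subgroup.map_commutator,
      Subgroup.map_top_of_surjective π hπ]
  have hne : commutator (G ⧸ K) ≠ ⊥ := by
    intro h
    rw [← hcQ, Subgroup.map_eq_bot_iff, QuotientGroup.ker_mk'] at h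
    exact hKc h
  have hmin : ∀ N : Subgroup (G ⧸ K), N.Normal → N ≠ ⊥ → commutator (G ⧸ K) ≤ N := by
    intro N hN hN0
    rw [← hcQ, Subgroup.map_le_iff_le_comap]
    by_contra h
    have hle : K ≤ N.comap π := fun k hk => by
      rw [Subgroup.mem_comap, QuotientGroup.mk'_apply, (QuotientGroup.eq_one_iff k).2 hk]; exact N.one_mem
    have h2 := hmax ⟨hN.comap π, h⟩ hle
    refine hN0 (le_bot_iff.1 fun q hq => ?_)
    obtain ⟨g, rfl⟩ := hπ q
    exact Subgroup.mem_bot.2 ((QuotientGroup.eq_one_iff g).2 (h2 hq))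
  haveI : Nontrivial (G ⧸ K) := by
    by_contra h
    rw [not_nontrivial_iff_subsingleton] at h
    exact hne (Subsingleton.elim _ _)
  haveI : Group.IsNilpotent (G ⧸ K) := Group.nilpotent_quotient_of_nilpotent K
  haveI : Nontrivial (Subgroup.center (G ⧸ K)) :=
    (Subgroup.nontrivial_iff_ne_bot _).2 (Group.IsNilpotent.center_ne_bot _)
  obtain ⟨p, hp, hpd⟩ := Nat.exists_prime_and_dvd
    (Finite.one_lt_card (α := Subgroup.center (G ⧸ K))).ne'
  haveI := Fact.mk hp
  obtain ⟨⟨z, hz⟩, hzo⟩ := exists_prime_orderOf_dvd_card' p hpd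
  rw [Subgroup.orderOf_mk] at hzo
  have hzc : Subgroup.zpowers z ≤ Subgroup.center (G ⧸ K) := Subgroup.zpowers_le.2 hz
  have hzn : (Subgroup.zpowers z).Normal :=
    ⟨fun x hx g => by
      rw [Subgroup.mem_center_iff.1 (hzc hx) g, mul_inv_cancel_right]; exact hx⟩
  have hcz := hmin _ hzn fun h => hp.ne_one (by
    rw [← hzo, ← Nat.card_zpowers, h, Subgroup.card_bot])
  -- the quotient by the centre has exponent p
  have hexp : ∀ x : G ⧸ K, x ^ p ∈ Subgroup.center (G ⧸ K) := by
    intro x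
    refine Subgroup.mem_center_iff.2 fun y => ?_
    set c := x * y * x⁻¹ * y⁻¹ with hc
    have hcm : c ∈ Subgroup.zpowers z := hcz (by
      rw [hc, ← commutatorElement_def, commutator_def]
      exact Subgroup.commutator_mem_commutator (Subgroup.mem_top _) (Subgroup.mem_top _))
    have hcp : c ^ p = 1 := by
      have := orderOf_dvd_natCard (⟨c, hcm⟩ : Subgroup.zpowers z)
      rw [Nat.card_zpowers, hzo, Subgroup.orderOf_mk] at this
      exact orderOf_dvd_iff_pow_eq_one.1 this
    have hcx : c * x = x * c := (Subgroup.mem_center_iff.1 (hzc hcm) x).symm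
    have hk : ∀ k : ℕ, x ^ k * y = c ^ k * y * x ^ k := by
      intro k
      induction k with
      | zero => simp
      | succ k ih =>
        have hck : c ^ k * x = x * c ^ k := ((Commute.pow_left (show Commute c x from hcx) k)).eq
        calc x ^ (k + 1) * y = x * (x ^ k * y) := by rw [pow_succ', mul_assoc]
          _ = x * c ^ k * y * x ^ k := by rw [ih]; group
          _ = c ^ k * (x * y * x⁻¹ * y⁻¹) * y * (x * x ^ k) := by rw [← hck]; group
          _ = c ^ (k + 1) * y * x ^ (k + 1) := by rw [← hc, ← pow_succ, ← pow_succ']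
    rw [hk p, hcp, one_mul]
  have hpg : IsPGroup p ((G ⧸ K) ⧸ Subgroup.center (G ⧸ K)) := by
    intro q
    obtain ⟨x, rfl⟩ := QuotientGroup.mk_surjective q
    exact ⟨1, by rw [pow_one, ← QuotientGroup.mk_pow]; exact (QuotientGroup.eq_one_iff _).2 (hexp x)⟩
  obtain ⟨s, hs⟩ := IsPGroup.iff_card.1 hpg
  rw [← Subgroup.index_eq_card] at hs
  -- a nonlinear character of the quotient
  obtain ⟨θ, hθ⟩ : ∃ θ : Cfsg.IrrCharacter (G ⧸ K), (θ : G ⧸ K → ℂ) 1 ≠ 1 := by
    by_contra h
    push Not at h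
    refine hne ?_
    rw [commutator_def, Subgroup.commutator_eq_bot_iff_le_centralizer]
    exact fun a _ => Subgroup.mem_centralizer_iff.2 fun b _ => comm_of_forall_degree_one h b a
  obtain ⟨f, hf, hfd⟩ := irr_degree_dvd_center_index θ.2
  have hle := degree_sq_le_center_index θ.2 hf
  rw [hs] at hfd hle
  obtain ⟨j, -, rfl⟩ := (Nat.dvd_prime_pow hp).1 hfd
  refine ⟨⟨_, isIrrCharacter_comp_surjective π hπ θ.2⟩, p ^ j, ?_, ?_, ?_⟩
  · show (θ : G ⧸ K → ℂ) (π 1) = _
    rw [map_one, hf]
  · refine lt_of_le_of_ne (Nat.one_le_pow _ _ hp.pos) fun h => hθ ?_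
    rw [hf, ← h, Nat.cast_one]
  · rw [← pow_mul] at hle ⊢
    have hjs : j * 2 ≤ s := (Nat.pow_le_pow_iff_right hp.one_lt).1 hle
    refine (pow_dvd_pow p hjs).trans ?_
    rw [← hs]
    refine (Subgroup.index_dvd_of_le (hcz.trans hzc)).trans ?_
    rw [← hcQ]
    exact Subgroup.index_map_dvd _ hπ

end Cfsg.Agent.CN
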