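import Mathlib
import Cfsg.Agent.Lib.CN.Basic
import Cfsg.Agent.Lib.Characters.Kernel
import Cfsg.Agent.Lib.Characters.Counting
import Cfsg.Agent.OddChar.Induce
import Cfsg.Agent.OddChar.Lattice
import Cfsg.Agent.OddChar.Constituent
import Cfsg.Agent.S0161

/-!
# Characters and a nilpotent subgroup containing the centralisers of its non-identity elements

`S θ η = ∑_{n ∈ N(M)} ⟨θ^n, η⟩`; the functions `Ind_M^G α` with `α 1 = 0` satisfy
`⟨Ind α, Ind β⟩ = S α β / |M|`.  Each pair `θ, θ̄` of nontrivial irreducible characters of `M`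
gives a pair `χ, χ̄` with `Ind (θ - θ̄) = χ - χ̄`, and an irreducible character non-real somewhere
on `M` is real outside the conjugates of `M`.
-/

set_option linter.style.haveILetI false
set_option linter.unusedSectionVars false

namespace Cfsg.Agent.CN

open Cfsg.Agent.Characters Cfsg.Agent.OddChar
open scoped ComplexConjugate

universe u

/-- A nontrivial nilpotent subgroup containing the centralisers of its non-identity elements. -/
structure CentMax {G : Type u} [Group G] (M : Subgroup G) : Prop where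
  nil : Group.IsNilpotent M
  ne_bot : M ≠ ⊥
  cent : CentIn M

/-- `g` is conjugate to a non-identity element of `M`. -/
def InT {G : Type u} [Group G] (M : Subgroup G) (g : G) : Prop :=
  g ≠ 1 ∧ ∃ x : G, x⁻¹ * g * x ∈ M

variable {G : Type u} [Group G]

theorem CentMax.map {M : Subgroup G} (h : CentMax M) (g : G) :
    CentMax (M.map (MulAut.conj g).toMonoidHom) := by
  have hinj : Function.Injective (MulAut.conj g).toMonoidHom := (MulAut.conj g).injective
  refine ⟨?_, ?_, ?_⟩
  · haveI := h.nil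
    exact Group.nilpotent_of_mulEquiv (Subgroup.equivMapOfInjective M _ hinj)
  · rw [Ne, Subgroup.map_eq_bot_iff_of_injective M hinj]; exact h.ne_bot
  · rintro _ ⟨x, hx, rfl⟩ hx1 y hy
    have hy' := mem_cent_iff.1 hy
    have hmem : g⁻¹ * y * g ∈ Subgroup.centralizer ({x} : Set G) := by
      rw [mem_cent_iff]
      simp only [MulEquiv.coe_toMonoidHom, MulAut.conj_apply] at hy'
      calc g⁻¹ * y * g * x = g⁻¹ * (y * (g * x * g⁻¹)) * g := by group
        _ = g⁻¹ * ((g * x * g⁻¹) * y) * g := by rw [hy']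
        _ = x * (g⁻¹ * y * g) := by group
    exact ⟨_, h.cent x hx (fun e => hx1 (by simp [e])) hmem, by simp [mul_assoc]⟩

theorem CentMax.eq_of_meet {M M' : Subgroup G} (h : CentMax M) (h' : CentMax M') {y : G}
    (hy : y ∈ M) (hy' : y ∈ M') (hy1 : y ≠ 1) : M = M' :=
  CN.eq_of_meet h.nil h'.nil h.cent h'.cent hy hy' hy1

theorem CentMax.mem_normalizer {M : Subgroup G} [Finite G] (h : CentMax M) {y x : G} (hy : y ∈ M)
    (hy1 : y ≠ 1) (hx : x⁻¹ * y * x ∈ M) : x ∈ Subgroup.normalizer (M : Set G) := by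
  have h1 := (h.map x).eq_of_meet h (y := y) ⟨_, hx, by simp [mul_assoc]⟩ hy hy1
  rw [Subgroup.mem_normalizer_iff]
  intro z
  constructor
  · intro hz
    rw [← h1]
    exact ⟨z, hz, by simp⟩
  · intro hz
    rw [← h1] at hz
    obtain ⟨w, hw, he⟩ := hz
    simp at he
    exact he ▸ hw

variable [Fintype G] {M : Subgroup G} [Fintype M] [Fintype (Subgroup.normalizer (M : Set G))]

local notation "N" => Subgroup.normalizer (M : Set G)

/-- Conjugation of functions on `M` by an element of the normaliser. -/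
def tw (n : N) {α : Type*} (f : M → α) : M → α := fun y => f (Induce.conjHom M n n.2 y)

theorem tw_apply (n : N) {α : Type*} (f : M → α) (y : M) :
    tw n f y = f (Induce.conjHom M n n.2 y) := rfl

theorem conjHom_mul (m n : N) (y : M) :
    Induce.conjHom M n n.2 (Induce.conjHom M m m.2 y) =
      Induce.conjHom M (m * n : N) (m * n).2 y :=
  Subtype.ext (by simp [mul_assoc])

theorem tw_tw (m n : N) {α : Type*} (f : M → α) : tw m (tw n f) = tw (m * n) f := by
  funext y; simp only [tw, conjHom_mul]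

theorem tw_one {α : Type*} (f : M → α) : tw (1 : N) f = f := by
  funext y; exact congrArg f (Subtype.ext (by simp))

theorem isIrr_tw (n : N) {θ : M → ℂ} (h : Cfsg.IsIrrCharacter M θ) :
    Cfsg.IsIrrCharacter M (tw n θ) :=
  (isIrrCharacter_comp_mulEquiv _).2 h

/-- The twisted irreducible character. -/
def twIrr (n : N) (θ : Cfsg.IrrCharacter M) : Cfsg.IrrCharacter M := ⟨tw n θ, isIrr_tw n θ.2⟩

theorem tw_of_mem (n : N) (hn : (n : G) ∈ M) {f : M → ℂ} (hf : Cfsg.IsClassFunction M f) :
    tw n f = f := by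
  funext y
  have h := hf y ⟨(n : G)⁻¹, M.inv_mem hn⟩
  rw [← h, tw]
  exact congrArg f (Subtype.ext (by simp))

variable (hM : CentMax M) (hodd : Odd (Nat.card G))
include hM

/-- `M`-stabilisers of nontrivial irreducible characters are trivial in `N/M`. -/
theorem mem_of_tw_eq {n : N} {θ : M → ℂ} (hθ : Cfsg.IsIrrCharacter M θ) (hne : θ ≠ fun _ => 1)
    (h : tw n θ = θ) : (n : G) ∈ M := by
  obtain ⟨g, hg, hconj⟩ :=
    (Constituent.exists_fixed_irr_iff (Induce.conjHom M n n.2)).1 ⟨θ, hθ, hne, h⟩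
  obtain ⟨m, hm⟩ := isConj_iff.1 hconj
  have hm' : (m : G) * ((n : G)⁻¹ * g * n) * (m : G)⁻¹ = g := congrArg Subtype.val hm
  have hc : (n : G) * (m : G)⁻¹ ∈ M := by
    refine hM.cent g g.2 (fun e => hg (Subtype.ext e)) (mem_cent_iff.2 ?_)
    calc (n : G) * (m : G)⁻¹ * g = (n : G) * (m : G)⁻¹ * ((m : G) * ((n : G)⁻¹ * g * n) * (m : G)⁻¹) := by
          rw [hm']
      _ = g * ((n : G) * (m : G)⁻¹) := by group
  simpa using M.mul_mem hc m.2

omit hM in
theorem odd_card_subgroup (hodd : Odd (Nat.card G)) (H : Subgroup G) : Odd (Nat.card H) := by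
  obtain ⟨c, hc⟩ := Subgroup.card_subgroup_dvd_card H
  exact (Nat.odd_mul.1 (hc ▸ hodd)).1

include hodd in
omit hM in
theorem conj_ne_self {θ : M → ℂ} (hθ : Cfsg.IsIrrCharacter M θ) (hne : θ ≠ fun _ => 1) :
    (fun y => conj (θ y)) ≠ θ := fun h =>
  hne (S0161.result (odd_card_subgroup hodd M) ⟨θ, hθ⟩ fun g =>
    Complex.conj_eq_iff_im.1 (congrFun h g))

include hodd in
theorem tw_ne_conj (n : N) {θ : M → ℂ} (hθ : Cfsg.IsIrrCharacter M θ) (hne : θ ≠ fun _ => 1) :
    tw n θ ≠ fun y => conj (θ y) := by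
  intro h
  have h2 : tw (n * n) θ = θ := by
    rw [← tw_tw, h]
    funext y
    have := congrFun h y
    simp only [tw] at this ⊢
    rw [this, Complex.conj_conj]
  have h3 := mem_of_tw_eq hM hθ hne h2
  have hn : (n : G) ∈ M := by
    obtain ⟨k, hk⟩ := hodd
    have hp : (n : G) ^ (Nat.card G) = 1 := pow_card_eq_one'
    have : (n : G) = (((n : G) * n) ^ k)⁻¹ := by
      rw [eq_inv_iff_mul_eq_one, ← sq, ← pow_mul, ← pow_succ', ← hk]
      exact hp
    rw [this]
    exact M.inv_mem (pow_mem (by simpa using h3) k)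
  rw [tw_of_mem n hn (char_isClassFunction (isCharacter_of_isIrr hθ))] at h
  exact conj_ne_self hodd hθ hne h.symm

omit hM in
/-- `S θ η = ∑_{n ∈ N(M)} ⟨θ^n, η⟩`. -/
noncomputable def S (θ η : M → ℂ) : ℂ := ∑ n : N, Cfsg.classInner (tw n θ) η

omit hM in
theorem S_add_left (θ θ' η : M → ℂ) : S (θ + θ') η = S θ η + S θ' η := by
  simp only [S, ← Finset.sum_add_distrib, ← classInner_add_left]
  rfl

omit hM in
theorem S_sub_left (θ θ' η : M → ℂ) : S (θ - θ') η = S θ η - S θ' η := by
  simp only [S, ← Finset.sum_sub_distrib, ← classInner_sub_left]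
  rfl

omit hM in
theorem S_smul_left (c : ℂ) (θ η : M → ℂ) : S (c • θ) η = c * S θ η := by
  simp only [S, Finset.mul_sum, ← classInner_smul_left]
  rfl

omit hM in
theorem S_sub_right (θ η η' : M → ℂ) : S θ (η - η') = S θ η - S θ η' := by
  simp only [S, ← Finset.sum_sub_distrib, ← classInner_sub_right]

omit hM in
theorem S_eq_zero {θ η : M → ℂ} (hθ : Cfsg.IsIrrCharacter M θ) (hη : Cfsg.IsIrrCharacter M η)
    (h : ∀ n : N, tw n θ ≠ η) : S θ η = 0 :=
  Finset.sum_eq_zero fun n _ => classInner_isIrr_ne (isIrr_tw n hθ) hη (h n)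

omit hM in
theorem S_one_one : S (fun _ : M => (1 : ℂ)) (fun _ => 1) = (Nat.card N : ℂ) := by
  have h1 : ∀ n : N, Cfsg.classInner (tw n (fun _ : M => (1 : ℂ))) (fun _ => 1) = 1 := fun n =>
    classInner_isIrr_self isIrrCharacter_one
  simp only [S, h1]
  rw [Finset.sum_const, Finset.card_univ, nsmul_one, Nat.card_eq_fintype_card]

theorem S_self {θ : M → ℂ} (hθ : Cfsg.IsIrrCharacter M θ) (hne : θ ≠ fun _ => 1) :
    S θ θ = (Nat.card M : ℂ) := by
  classical
  have h1 : ∀ n : N, Cfsg.classInner (tw n θ) θ = if (n : G) ∈ M then 1 else 0 := by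
    intro n
    split_ifs with hn
    · rw [tw_of_mem n hn (char_isClassFunction (isCharacter_of_isIrr hθ))]
      exact classInner_isIrr_self hθ
    · exact classInner_isIrr_ne (isIrr_tw n hθ) hθ fun e => hn (mem_of_tw_eq hM hθ hne e)
  simp only [S, h1, Finset.sum_boole]
  rw [← Fintype.card_subtype, ← Nat.card_eq_fintype_card]
  let e : {n : N // (n : G) ∈ M} ≃ M :=
    { toFun := fun n => (⟨(n.1 : G), n.2⟩ : M)
      invFun := fun y => ⟨⟨y, Subgroup.le_normalizer y.2⟩, y.2⟩
      left_inv := fun n => rfl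
      right_inv := fun y => rfl }
  rw [Nat.card_congr e]

omit hM in
theorem S_one_left {η : M → ℂ} (hη : Cfsg.IsIrrCharacter M η) (hne : η ≠ fun _ => 1) :
    S (fun _ : M => (1 : ℂ)) η = 0 :=
  S_eq_zero isIrrCharacter_one hη fun _ e => hne e.symm

omit hM in
theorem S_one_right {θ : M → ℂ} (hθ : Cfsg.IsIrrCharacter M θ) (hne : θ ≠ fun _ => 1) :
    S θ (fun _ => 1) = 0 := by
  refine S_eq_zero hθ isIrrCharacter_one fun n e => hne ?_
  have := congrArg (tw n⁻¹) e
  rw [tw_tw, inv_mul_cancel, tw_one] at this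
  exact this

omit hM in
theorem conj_ne_one {θ : M → ℂ} (hne : θ ≠ fun _ => 1) : (fun y => conj (θ y)) ≠ fun _ => 1 := by
  intro h
  refine hne (funext fun y => ?_)
  have := congrArg conj (congrFun h y)
  simpa using this

include hodd in
theorem S_conj_left {θ : M → ℂ} (hθ : Cfsg.IsIrrCharacter M θ) (hne : θ ≠ fun _ => 1) :
    S (fun y => conj (θ y)) θ = 0 := by
  refine S_eq_zero (isIrrCharacter_conj hθ) hθ fun n e => ?_
  exact tw_ne_conj hM hodd n (isIrrCharacter_conj hθ) (conj_ne_one hne) (e.trans (by simp))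

include hodd in
theorem S_conj_right {θ : M → ℂ} (hθ : Cfsg.IsIrrCharacter M θ) (hne : θ ≠ fun _ => 1) :
    S θ (fun y => conj (θ y)) = 0 :=
  S_eq_zero hθ (isIrrCharacter_conj hθ) fun n e => tw_ne_conj hM hodd n hθ hne e

/-- Values on `M` of a function induced from a function vanishing at `1`. -/
theorem indFun_coe {α : M → ℂ} (hα : α 1 = 0) (y : M) :
    Cfsg.indFun M α y = (Nat.card M : ℂ)⁻¹ * ∑ n : N, tw n α y := by
  refine Induce.indFun_apply_of_ti M α y fun x hx hne => ?_
  refine hM.mem_normalizer y.2 (fun e => hne ?_) hx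
  rw [← hα]
  exact congrArg α (Subtype.ext (by simp [e]))

/-- `⟨Ind α, Ind β⟩ = S α β / |M|`. -/
theorem inner_indFun {α : M → ℂ} (hα : α 1 = 0) (β : M → ℂ) :
    Cfsg.classInner (Cfsg.indFun M α) (Cfsg.indFun M β) = (Nat.card M : ℂ)⁻¹ * S α β := by
  rw [frobenius_reciprocity' M β (indFun_isClassFunction _ _)]
  have h : (fun y : M => Cfsg.indFun M α y) = (Nat.card M : ℂ)⁻¹ • ∑ n : N, tw n α := by
    funext y
    simp [indFun_coe hM hα y, Finset.sum_apply]
  rw [h, classInner_smul_left, classInner_sum_left, S]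

omit hM in
/-- A function induced from one vanishing at `1` vanishes off the conjugates of `M#`. -/
theorem indFun_eq_zero_of_not_inT {α : M → ℂ} (hα : α 1 = 0) {g : G} (hg : ¬ InT M g) :
    Cfsg.indFun M α g = 0 := by
  refine Induce.indFun_eq_zero M α g fun x => ?_
  by_cases hx : x⁻¹ * g * x ∈ M
  · have h1 : g = 1 := by
      by_contra h
      exact hg ⟨h, x, hx⟩
    subst h1
    rw [CharTheory.IndBasic.extendByZero_of_mem M α hx, ← hα]
    exact congrArg α (Subtype.ext (by simp))
  · exact CharTheory.IndBasic.extendByZero_of_notMem M α hx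

omit hM in
theorem indFun_conjFun (α : M → ℂ) (g : G) :
    Cfsg.indFun M (fun y => conj (α y)) g = conj (Cfsg.indFun M α g) := by
  simp only [Cfsg.indFun, map_mul, map_inv₀, map_natCast, map_sum]
  refine congrArg _ (Finset.sum_congr rfl fun x _ => ?_)
  by_cases hx : x⁻¹ * g * x ∈ M
  · rw [CharTheory.IndBasic.extendByZero_of_mem M _ hx,
      CharTheory.IndBasic.extendByZero_of_mem M _ hx]
  · rw [CharTheory.IndBasic.extendByZero_of_notMem M _ hx,
      CharTheory.IndBasic.extendByZero_of_notMem M _ hx, map_zero]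

omit hM in
theorem degree_conj {θ : M → ℂ} (hθ : Cfsg.IsIrrCharacter M θ) : conj (θ 1) = θ 1 := by
  obtain ⟨n, -, hn⟩ := irr_one_pos hθ
  simp [hn]

include hodd in
/-- `Ind (θ - θ̄)` is the difference of a non-real irreducible character and its conjugate. -/
theorem exists_pair {θ : M → ℂ} (hθ : Cfsg.IsIrrCharacter M θ) (hne : θ ≠ fun _ => 1) :
    ∃ χ : Cfsg.IrrCharacter G, irrConjEquiv G χ ≠ χ ∧
      Cfsg.indFun M (θ - fun y => conj (θ y)) = (χ : G → ℂ) - fun g => conj ((χ : G → ℂ) g) := by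
  classical
  set δ : M → ℂ := θ - fun y => conj (θ y) with hδdef
  have hθ' := isIrrCharacter_conj hθ
  have hδ1 : δ 1 = 0 := by simp [δ, degree_conj hθ]
  have hgen : Cfsg.IsGeneralizedCharacter G (Cfsg.indFun M δ) :=
    isGen_indFun M (isGen_sub (isGen_of_isCharacter (isCharacter_of_isIrr hθ))
      (isGen_of_isCharacter (isCharacter_of_isIrr hθ')))
  have hnorm : Cfsg.classInner (Cfsg.indFun M δ) (Cfsg.indFun M δ) = 2 := by
    rw [inner_indFun hM hδ1, hδdef, S_sub_left, S_sub_right, S_sub_right, S_self hM hθ hne,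
      S_conj_right hM hodd hθ hne, S_conj_left hM hodd hθ hne, S_self hM hθ' (conj_ne_one hne),
      sub_zero, zero_sub, sub_neg_eq_add, ← two_mul, ← mul_assoc, mul_comm _ (2 : ℂ), mul_assoc,
      inv_mul_cancel₀ (Nat.cast_ne_zero.2 Nat.card_pos.ne'), mul_one]
  have h1 : Cfsg.indFun M δ 1 = 0 := by rw [indFun_one, hδ1, mul_zero]
  obtain ⟨a, b, hab, hθab⟩ := Lattice.norm_two_deg_zero hgen hnorm h1
  have hanti : ∀ g, conj ((a : G → ℂ) g) - conj ((b : G → ℂ) g) = (b : G → ℂ) g - (a : G → ℂ) g := by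
    intro g
    have h2 : conj (Cfsg.indFun M δ g) = -Cfsg.indFun M δ g := by
      rw [← indFun_conjFun, show (fun y => conj (δ y)) = -δ from funext fun y => by simp [δ],
        show -δ = ((-1 : ℂ) • δ) from by simp, indFun_smul]
      simp
    rw [hθab] at h2
    simp only [Pi.sub_apply, map_sub] at h2
    rw [h2]; ring
  have hb : b = irrConjEquiv G a := by
    by_contra hne'
    have hne2 : irrConjEquiv G b ≠ a := fun e => hne' (by rw [← e]; ext g; simp)
    have h3 : ((irrConjEquiv G a : Cfsg.IrrCharacter G) : G → ℂ) - (irrConjEquiv G b : G → ℂ) =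
        (b : G → ℂ) - (a : G → ℂ) := funext fun g => by simpa using hanti g
    have h4 := congrArg (fun f => Cfsg.classInner f (a : G → ℂ)) h3
    simp only [classInner_sub_left, classInner_irr, if_neg hne2, if_neg hab.symm, if_true] at h4
    split_ifs at h4 <;> norm_num at h4
  refine ⟨a, fun e => hab (e.symm.trans hb.symm), ?_⟩
  rw [hθab, hb]
  funext g
  simp

include hodd in
/-- An irreducible character of `G` non-real somewhere on `M` is real off the conjugates of `M`. -/
theorem real_of_not_inT (χ : Cfsg.IrrCharacter G) {y : G} (hy : InT M y)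
    (hχ : conj ((χ : G → ℂ) y) ≠ (χ : G → ℂ) y) {g : G} (hg : ¬ InT M g) :
    conj ((χ : G → ℂ) g) = (χ : G → ℂ) g := by
  classical
  haveI := Fintype.ofFinite (Cfsg.IrrCharacter M)
  obtain ⟨-, x, hx⟩ := hy
  set u : M → ℂ := fun z => (χ : G → ℂ) z
  have hu : Cfsg.IsCharacter M u := isCharacter_restrict M (irr_isCharacter χ)
  set f : M → ℂ := u - fun z => conj (u z)
  have hf : Cfsg.IsClassFunction M f := fun a b => by
    simp [f, char_isClassFunction hu a b]
  have hfne : f ⟨_, hx⟩ ≠ 0 := by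
    have h1 : u ⟨_, hx⟩ = (χ : G → ℂ) y := by
      simpa [u] using char_isClassFunction (irr_isCharacter χ) y x⁻¹
    simp only [f, Pi.sub_apply, h1, sub_ne_zero]
    exact fun h => hχ h.symm
  obtain ⟨θ, hθ⟩ : ∃ θ : Cfsg.IrrCharacter M, Cfsg.classInner f (θ : M → ℂ) ≠ 0 := by
    by_contra h
    push Not at h
    refine hfne ?_
    rw [classFun_eq_sum hf]
    simp [h]
  have hint : ∀ η : M → ℂ, Cfsg.IsIrrCharacter M η →
      conj (Cfsg.classInner u η) = Cfsg.classInner u η := fun η hη => by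
    obtain ⟨z, hz⟩ := classInner_char_nat hu (isCharacter_of_isIrr hη)
    simp [hz]
  have hkey : Cfsg.classInner f (θ : M → ℂ) =
      Cfsg.classInner u ((θ : M → ℂ) - fun z => conj ((θ : M → ℂ) z)) := by
    rw [classInner_sub_left, classInner_sub_right]
    congr 1
    have h2 := classInner_conj_conj u (fun z => conj ((θ : M → ℂ) z))
    simp only [Complex.conj_conj] at h2
    rw [h2, hint _ (isIrrCharacter_conj θ.2)]
  have hθ1 : (θ : M → ℂ) ≠ fun _ => 1 := by
    intro h
    rw [hkey, h] at hθ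
    simp at hθ
  obtain ⟨ψ, -, hψ⟩ := exists_pair hM hodd θ.2 hθ1
  rw [hkey, ← frobenius_reciprocity' M _ (irr_isClassFunction χ), hψ, classInner_sub_right,
    classInner_irr, show (fun g => conj ((ψ : G → ℂ) g)) = ((irrConjEquiv G ψ :
      Cfsg.IrrCharacter G) : G → ℂ) from funext fun g => (irrConjEquiv_coe ψ g).symm,
    classInner_irr] at hθ
  have h0 : (ψ : G → ℂ) g = conj ((ψ : G → ℂ) g) := by
    have := congrFun hψ g
    rw [indFun_eq_zero_of_not_inT (by simp [degree_conj θ.2]) hg] at this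
    exact sub_eq_zero.1 this.symm
  by_cases h1 : χ = ψ
  · rw [h1]; exact h0.symm
  · have h2 : χ = irrConjEquiv G ψ := by
      by_contra h2
      simp [h1, h2] at hθ
    rw [h2, irrConjEquiv_coe, Complex.conj_conj]
    exact h0

end Cfsg.Agent.CN
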