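import Mathlib
import Cfsg.Agent.Lib.CN.TI
import Cfsg.Agent.Lib.CN.Degree

/-!
# The exceptional character attached to a linear character of `M`

`χ₀` with `Ind (φ - φ̄) = χ₀ - χ̄₀` for a nontrivial linear `φ`, `e = [N(M) : M]`:
* `out_bound`: few classes off `M` can have `χ₀ = 0`;
* `sum_bound`: `(e + 1)(|M| - 1) ≤ 2 ∑_{M#} |χ₀|²`.
-/

set_option linter.style.haveILetI false
set_option linter.unusedSectionVars false

namespace Cfsg.Agent.CN

open Cfsg.Agent.Characters Cfsg.Agent.OddChar
open scoped ComplexConjugate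

universe u

/-- A finite sum invariant under a fixed-point-free involution is twice a partial sum. -/
theorem sum_invol {α β : Type*} [AddCommMonoid β] [DecidableEq α] (σ : α → α)
    (hσ : ∀ x, σ (σ x) = x) (f : α → β) (hf : ∀ x, f (σ x) = f x) :
    ∀ s : Finset α, (∀ x ∈ s, σ x ∈ s ∧ σ x ≠ x) →
      ∃ t ⊆ s, ∑ x ∈ s, f x = (∑ x ∈ t, f x) + ∑ x ∈ t, f x := by
  intro s
  induction s using Finset.strongInduction with
  | _ s ih =>
    intro h
    rcases s.eq_empty_or_nonempty with rfl | ⟨x, hx⟩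
    · exact ⟨∅, subset_rfl, by simp⟩
    obtain ⟨hx1, hx2⟩ := h x hx
    set s' := (s.erase x).erase (σ x)
    have hss : s' ⊂ s :=
      (Finset.erase_subset _ _).trans_ssubset (Finset.erase_ssubset hx)
    obtain ⟨t, hts, ht⟩ := ih s' hss (fun y hy => by
      simp only [s', Finset.mem_erase] at hy
      obtain ⟨hy1, hy2, hy3⟩ := hy
      obtain ⟨h1, h2⟩ := h y hy3
      refine ⟨?_, h2⟩
      simp only [s', Finset.mem_erase]
      refine ⟨fun e => hy2 ?_, fun e => hy1 ?_, h1⟩
      · rw [← hσ y, e, hσ]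
      · rw [← hσ y, e])
    have hxt : x ∉ t := fun hm => by
      have := hts hm
      simp [s'] at this
    refine ⟨insert x t, Finset.insert_subset hx (hts.trans hss.subset), ?_⟩
    rw [Finset.sum_insert hxt, ← Finset.add_sum_erase _ _ hx,
      ← Finset.add_sum_erase _ _ (Finset.mem_erase.2 ⟨hx2, hx1⟩), ht, hf]
    abel

variable {G : Type u} [Group G] [Fintype G] {M : Subgroup G} [Fintype M]
  [Fintype (Subgroup.normalizer (M : Set G))]

local notation "N" => Subgroup.normalizer (M : Set G)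

theorem card_normalizer :
    Nat.card N = Nat.card M * M.relIndex (Subgroup.normalizer (M : Set G)) := by
  rw [← Subgroup.relIndex_bot_left, ← Subgroup.relIndex_bot_left,
    Subgroup.relIndex_mul_relIndex _ _ _ bot_le Subgroup.le_normalizer]

theorem classInner_tw (n : N) (f g : M → ℂ) :
    Cfsg.classInner (tw n f) (tw n g) = Cfsg.classInner f g := by
  rw [classInner_def, classInner_def]
  refine congrArg _ ?_
  exact Fintype.sum_equiv (Induce.conjHom M n n.2).toEquiv _ _ fun y => rfl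

theorem tw_restrict (n : N) {f : G → ℂ} (hf : Cfsg.IsClassFunction G f) :
    tw n (fun y : M => f y) = fun y : M => f y := by
  funext y
  have := hf (y : G) (n : G)⁻¹
  simpa [tw] using this

/-- The orbit of `θ` under `N(M)`. -/
noncomputable def orbit (θ : Cfsg.IrrCharacter M) : Finset (Cfsg.IrrCharacter M) := by
  classical exact Finset.univ.image (fun n : N => twIrr n θ)

theorem mem_orbit {θ η : Cfsg.IrrCharacter M} :
    η ∈ orbit θ ↔ ∃ n : N, twIrr n θ = η := by
  classical
  simp [orbit]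

theorem self_mem_orbit (θ : Cfsg.IrrCharacter M) : θ ∈ orbit θ :=
  mem_orbit.2 ⟨1, Subtype.ext (tw_one _)⟩

theorem mem_orbit_symm {θ η : Cfsg.IrrCharacter M} (h : η ∈ orbit θ) : θ ∈ orbit η := by
  obtain ⟨n, rfl⟩ := mem_orbit.1 h
  exact mem_orbit.2 ⟨n⁻¹, Subtype.ext (by
    show tw n⁻¹ (tw n (θ : M → ℂ)) = θ
    rw [tw_tw, inv_mul_cancel, tw_one])⟩

theorem mem_orbit_trans {θ η ξ : Cfsg.IrrCharacter M} (h : η ∈ orbit θ) (h' : ξ ∈ orbit η) :
    ξ ∈ orbit θ := by
  obtain ⟨n, rfl⟩ := mem_orbit.1 h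
  obtain ⟨m, rfl⟩ := mem_orbit.1 h'
  exact mem_orbit.2 ⟨m * n, Subtype.ext (tw_tw m n _).symm⟩

theorem disjoint_orbit {θ η : Cfsg.IrrCharacter M} (h : η ∉ orbit θ) :
    Disjoint (orbit θ) (orbit η) :=
  Finset.disjoint_left.2 fun _ h1 h2 => h (mem_orbit_trans h1 (mem_orbit_symm h2))

variable (hM : CentMax M) (hodd : Odd (Nat.card G))
include hM

theorem card_orbit {θ : Cfsg.IrrCharacter M} (hne : (θ : M → ℂ) ≠ fun _ => 1) :
    (orbit θ).card = M.relIndex (Subgroup.normalizer (M : Set G)) := by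
  classical
  have hfib : ∀ η ∈ orbit θ,
      (Finset.univ.filter fun n : N => twIrr n θ = η).card = Nat.card M := by
    intro η hη
    obtain ⟨m, rfl⟩ := mem_orbit.1 hη
    have hmem : ∀ n : N, twIrr n θ = twIrr m θ → ((m⁻¹ * n : N) : G) ∈ M := fun n hn => by
      refine mem_of_tw_eq hM θ.2 hne ?_
      rw [← tw_tw, show tw n (θ : M → ℂ) = tw m (θ : M → ℂ) from congrArg Subtype.val hn, tw_tw,
        inv_mul_cancel, tw_one]
    rw [← Fintype.card_subtype, ← Nat.card_eq_fintype_card]
    refine Nat.card_congr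
      { toFun := fun n => ⟨_, hmem n.1 n.2⟩
        invFun := fun y => ⟨m * ⟨y, Subgroup.le_normalizer y.2⟩, Subtype.ext ?_⟩
        left_inv := fun n => Subtype.ext (Subtype.ext (by simp))
        right_inv := fun y => Subtype.ext (by simp) }
    show tw (m * (⟨y, Subgroup.le_normalizer y.2⟩ : N)) (θ : M → ℂ) = tw m (θ : M → ℂ)
    rw [← tw_tw, tw_of_mem (⟨y, Subgroup.le_normalizer y.2⟩ : N) y.2 (irr_isClassFunction θ)]
  have h := Finset.card_eq_sum_card_fiberwise (f := fun n : N => twIrr n θ)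
    (s := Finset.univ) (t := orbit θ) fun n _ => Finset.mem_coe.2 (mem_orbit.2 ⟨n, rfl⟩)
  rw [Finset.sum_congr rfl hfib, Finset.sum_const, smul_eq_mul, Finset.card_univ,
    ← Nat.card_eq_fintype_card, card_normalizer, mul_comm (orbit θ).card] at h
  exact (Nat.eq_of_mul_eq_mul_left Nat.card_pos h).symm

/-- A nontrivial linear character of `M`. -/
theorem exists_linear : ∃ φ : Cfsg.IrrCharacter M, (φ : M → ℂ) 1 = 1 ∧ (φ : M → ℂ) ≠ fun _ => 1 := by
  classical
  haveI := hM.nil
  haveI : Nontrivial M := (Subgroup.nontrivial_iff_ne_bot _).2 hM.ne_bot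
  have h1 : 1 < Nat.card {χ : Cfsg.IrrCharacter M // (χ : M → ℂ) 1 = 1} := by
    rw [card_degree_one]
    refine Nat.lt_of_le_of_ne (Nat.one_le_iff_ne_zero.2 (Subgroup.index_ne_zero_of_finite))
      fun h => ?_
    exact (Group.IsSolvable.commutator_lt_top_of_nontrivial M).ne (Subgroup.index_eq_one.1 h.symm)
  haveI : Nontrivial {χ : Cfsg.IrrCharacter M // (χ : M → ℂ) 1 = 1} :=
    Finite.one_lt_card_iff_nontrivial.1 h1
  obtain ⟨⟨φ, hφ⟩, hne⟩ := exists_ne (⟨trivIrr M, rfl⟩ : {χ : Cfsg.IrrCharacter M //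
    (χ : M → ℂ) 1 = 1})
  exact ⟨φ, hφ, fun h => hne (Subtype.ext (Subtype.ext h))⟩

include hodd

/-- The special character: everything needed for the counting argument. -/
theorem out_bound (φ : Cfsg.IrrCharacter M) (hφ1 : (φ : M → ℂ) 1 = 1)
    (hφ : (φ : M → ℂ) ≠ fun _ => 1) (χ₀ : Cfsg.IrrCharacter G) (hχ₀ : irrConjEquiv G χ₀ ≠ χ₀)
    (hpair : Cfsg.indFun M ((φ : M → ℂ) - fun y => conj ((φ : M → ℂ) y)) =
      (χ₀ : G → ℂ) - fun g => conj ((χ₀ : G → ℂ) g))
    (Y : Finset G) (hY : ∀ y ∈ Y, y ≠ 1 ∧ ¬ InT M y ∧ (χ₀ : G → ℂ) y = 0)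
    (hdis : ∀ y ∈ Y, ∀ y' ∈ Y, ∀ χ : Cfsg.IrrCharacter G,
      conj ((χ : G → ℂ) y) ≠ (χ : G → ℂ) y → conj ((χ : G → ℂ) y') ≠ (χ : G → ℂ) y' → y = y') :
    2 * Y.card + 1 ≤ M.relIndex (Subgroup.normalizer (M : Set G)) := by
  classical
  haveI := Fintype.ofFinite (Cfsg.IrrCharacter G)
  set e := M.relIndex (Subgroup.normalizer (M : Set G))
  set α : M → ℂ := (fun _ => (1 : ℂ)) - (φ : M → ℂ) with hαdef
  have hα1 : α 1 = 0 := by simp [α, hφ1]
  set Φ := Cfsg.indFun M α
  have hgen : Cfsg.IsGeneralizedCharacter G Φ := isGen_indFun M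
    (isGen_sub (isGen_of_isCharacter isCharacter_one) (isGen_of_isCharacter (irr_isCharacter φ)))
  have hnorm : Cfsg.classInner Φ Φ = (((e : ℤ) + 1 : ℤ) : ℂ) := by
    rw [inner_indFun hM hα1, hαdef, S_sub_left, S_sub_right, S_sub_right, S_one_one,
      S_one_left φ.2 hφ, S_one_right φ.2 hφ, S_self hM φ.2 hφ, card_normalizer]
    have : (Nat.card M : ℂ) ≠ 0 := Nat.cast_ne_zero.2 Nat.card_pos.ne'
    push_cast
    field_simp
    ring
  set d := Lattice.coeff Φ with hd
  have hd1 : d (trivIrr G) = 1 := by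
    refine Lattice.coeff_eq_of_inner ?_
    rw [trivIrr_coe, frobenius_reciprocity M _ (char_isClassFunction isCharacter_one), hαdef,
      classInner_sub_left, classInner_isIrr_self isIrrCharacter_one,
      classInner_isIrr_ne φ.2 isIrrCharacter_one hφ, sub_zero, Int.cast_one]
  have hdconj : ∀ χ, d (irrConjEquiv G χ) =
      d χ + (if χ₀ = χ then 1 else 0) - (if irrConjEquiv G χ₀ = χ then 1 else 0) := by
    intro χ
    refine Lattice.coeff_eq_of_inner ?_
    have hcoe : ((irrConjEquiv G χ : Cfsg.IrrCharacter G) : G → ℂ) =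
        fun g => conj ((χ : G → ℂ) g) := funext (irrConjEquiv_coe χ)
    have hcoe0 : (fun g => conj ((χ₀ : G → ℂ) g)) =
        ((irrConjEquiv G χ₀ : Cfsg.IrrCharacter G) : G → ℂ) :=
      (funext (irrConjEquiv_coe χ₀)).symm
    have hΦc : (fun g => conj (Φ g)) = Φ + ((χ₀ : G → ℂ) - fun g => conj ((χ₀ : G → ℂ) g)) := by
      rw [← hpair, ← indFun_add]
      funext g
      rw [← indFun_conjFun]
      exact congrFun (congrArg (Cfsg.indFun M) (funext fun y => by simp [α])) g
    have h1 := classInner_conj_conj Φ (fun g => conj ((χ : G → ℂ) g))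
    simp only [Complex.conj_conj] at h1
    rw [hΦc, classInner_add_left, classInner_sub_left, hcoe0, classInner_irr, classInner_irr,
      Lattice.coeff_spec hgen] at h1
    rw [hcoe, ← Complex.conj_conj (Cfsg.classInner Φ _), ← h1]
    simp only [map_add, map_sub, map_intCast]
    push_cast
    split_ifs <;> simp [hd] <;> ring
  set Other : Finset (Cfsg.IrrCharacter G) :=
    ((Finset.univ.erase (trivIrr G)).erase χ₀).erase (irrConjEquiv G χ₀) with hOther
  have hcc : ∀ χ : Cfsg.IrrCharacter G, irrConjEquiv G (irrConjEquiv G χ) = χ := fun χ => by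
    ext g; simp
  have hctriv : irrConjEquiv G (trivIrr G) = trivIrr G := by ext g; simp
  have hfree : ∀ χ : Cfsg.IrrCharacter G, χ ≠ trivIrr G → irrConjEquiv G χ ≠ χ := by
    intro χ hχ e'
    refine hχ (Subtype.ext (S0161.result hodd χ fun g => ?_))
    exact Complex.conj_eq_iff_im.1 (by rw [← irrConjEquiv_coe, e'])
  have hmem : ∀ χ ∈ Other, irrConjEquiv G χ ∈ Other ∧ irrConjEquiv G χ ≠ χ := by
    intro χ hχ
    simp only [hOther, Finset.mem_erase, Finset.mem_univ, and_true] at hχ ⊢
    obtain ⟨h1, h2, h3⟩ := hχ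
    refine ⟨⟨fun e' => h2 ((irrConjEquiv G).injective e'), fun e' => h1 ?_, fun e' => h3 ?_⟩,
      hfree χ h3⟩
    · rw [← hcc χ, e']
    · rw [← hcc χ, e', hctriv]
  have h0triv : χ₀ ≠ trivIrr G := fun e' => hχ₀ (by rw [e']; exact hctriv)
  have h0'triv : irrConjEquiv G χ₀ ≠ trivIrr G := fun e' => h0triv (by rw [← hcc χ₀, e', hctriv])
  have hsplit : ∀ {β : Type} [AddCommMonoid β] (f : Cfsg.IrrCharacter G → β),
      ∑ χ, f χ = f (trivIrr G) + (f χ₀ + (f (irrConjEquiv G χ₀) + ∑ χ ∈ Other, f χ)) := by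
    intro β _ f
    rw [hOther, Finset.add_sum_erase _ _ (Finset.mem_erase.2 ⟨hχ₀,
      Finset.mem_erase.2 ⟨h0'triv, Finset.mem_univ _⟩⟩), Finset.add_sum_erase _ _
      (Finset.mem_erase.2 ⟨h0triv, Finset.mem_univ _⟩), Finset.add_sum_erase _ _
      (Finset.mem_univ _)]
  have hd0 : d (irrConjEquiv G χ₀) = d χ₀ + 1 := by
    rw [hdconj, if_pos rfl, if_neg hχ₀, sub_zero]
  have hdO : ∀ χ ∈ Other, d (irrConjEquiv G χ) = d χ := by
    intro χ hχ
    simp only [hOther, Finset.mem_erase] at hχ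
    rw [hdconj, if_neg (Ne.symm hχ.2.1), if_neg (Ne.symm hχ.1), add_zero, sub_zero]
  -- every zero of `χ₀` gives a constituent of `Φ`
  have hex : ∀ y ∈ Y, ∃ χ ∈ Other, d χ ≠ 0 ∧ conj ((χ : G → ℂ) y) ≠ (χ : G → ℂ) y := by
    intro y hy
    obtain ⟨hy1, hyT, hy0⟩ := hY y hy
    by_contra hcon
    push Not at hcon
    have hexp := Lattice.apply_eq_sum hgen y
    rw [show Φ y = 0 from indFun_eq_zero_of_not_inT hα1 hyT, hsplit] at hexp
    have hy0' : ((irrConjEquiv G χ₀ : Cfsg.IrrCharacter G) : G → ℂ) y = 0 := by simp [hy0]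
    rw [← hd, hd1, hy0, hy0', mul_zero, mul_zero, zero_add, zero_add, trivIrr_coe, Int.cast_one,
      one_mul] at hexp
    let f : Cfsg.IrrCharacter G → ℂ := fun χ =>
      if χ ∈ Other then (d χ : ℂ) * (χ : G → ℂ) y else 0
    have hf : ∀ χ, f (irrConjEquiv G χ) = f χ := by
      intro χ
      by_cases hχ : χ ∈ Other
      · simp only [f, if_pos hχ, if_pos (hmem χ hχ).1, hdO χ hχ, irrConjEquiv_coe]
        rcases eq_or_ne (d χ) 0 with h0 | h0
        · simp [h0]
        · rw [hcon χ hχ h0]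
      · have : irrConjEquiv G χ ∉ Other := fun h => hχ (by rw [← hcc χ]; exact (hmem _ h).1)
        simp only [f, if_neg hχ, if_neg this]
    obtain ⟨t, hts, ht⟩ := sum_invol _ hcc f hf Other hmem
    rw [Finset.sum_congr rfl fun χ hχ => (if_pos hχ : f χ = (d χ : ℂ) * (χ : G → ℂ) y),
      Finset.sum_congr rfl fun χ hχ =>
        (if_pos (hts hχ) : f χ = (d χ : ℂ) * (χ : G → ℂ) y)] at ht
    rw [ht] at hexp
    have h2 : IsIntegral ℤ (((1 : ℕ) : ℂ) / ((2 : ℕ) : ℂ)) := by
      have : ((1 : ℕ) : ℂ) / ((2 : ℕ) : ℂ) = -∑ χ ∈ t, (d χ : ℂ) * (χ : G → ℂ) y := by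
        push_cast
        linear_combination -hexp / 2
      rw [this]
      exact (IsIntegral.sum _ fun χ _ => (isIntegral_algebraMap (x := d χ)).mul
        (char_value_isIntegral (irr_isCharacter χ) y)).neg
    have := Nat.le_of_dvd one_pos (dvd_of_isIntegral_div two_ne_zero h2)
    omega
  haveI : Nonempty (Cfsg.IrrCharacter G) := ⟨trivIrr G⟩
  choose! g hgO hgd hgn using hex
  set A := Y.image g
  set B := Y.image fun y => irrConjEquiv G (g y)
  have hinj : Set.InjOn g (Y : Set G) := fun y hy y' hy' h =>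
    hdis y hy y' hy' (g y) (hgn y hy) (h ▸ hgn y' hy')
  have hAc : A.card = Y.card := Finset.card_image_of_injOn hinj
  have hBc : B.card = Y.card :=
    Finset.card_image_of_injOn fun y hy y' hy' h => hinj hy hy' ((irrConjEquiv G).injective h)
  have hdisj : Disjoint A B := by
    rw [Finset.disjoint_left]
    intro χ hA hB
    obtain ⟨y, hy, rfl⟩ := Finset.mem_image.1 hA
    obtain ⟨y', hy', he⟩ := Finset.mem_image.1 hB
    have hyy : y' = y := by
      refine hdis y' hy' y hy (g y') (hgn y' hy') ?_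
      intro hr
      apply hgn y hy
      rw [← he]
      simp [hr]
    rw [hyy] at he
    exact (hmem _ (hgO y hy)).2 he
  have hsub : A ∪ B ⊆ Other.filter fun χ => d χ ≠ 0 := by
    intro χ hχ
    rcases Finset.mem_union.1 hχ with h | h <;> obtain ⟨y, hy, rfl⟩ := Finset.mem_image.1 h
    · exact Finset.mem_filter.2 ⟨hgO y hy, hgd y hy⟩
    · exact Finset.mem_filter.2 ⟨(hmem _ (hgO y hy)).1, by rw [hdO _ (hgO y hy)]; exact hgd y hy⟩
  have hcard : (2 * Y.card : ℤ) ≤ ∑ χ ∈ Other, d χ ^ 2 := by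
    have h1 := Finset.card_le_card hsub
    rw [Finset.card_union_of_disjoint hdisj, hAc, hBc] at h1
    refine le_trans (b := ((Other.filter fun χ => d χ ≠ 0).card : ℤ))
      (by push_cast [two_mul]; exact_mod_cast h1) ?_
    rw [Finset.card_filter]
    push_cast
    refine Finset.sum_le_sum fun χ _ => ?_
    split_ifs with h
    · have : 0 < d χ ^ 2 := by positivity
      omega
    · exact sq_nonneg _
  have hsum := Lattice.sum_sq_of_norm hgen hnorm
  rw [hsplit, ← hd, hd1, hd0] at hsum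
  have hsq : 1 ≤ d χ₀ ^ 2 + (d χ₀ + 1) ^ 2 := by
    rcases le_or_gt 0 (d χ₀) with h | h <;> nlinarith
  have : (2 * Y.card + 1 : ℤ) ≤ (e : ℤ) := by nlinarith
  exact_mod_cast this

/-- `(e + 1)(|M| - 1) ≤ 2 ∑_{M#} |χ₀|²`. -/
theorem sum_bound (φ : Cfsg.IrrCharacter M) (hφ1 : (φ : M → ℂ) 1 = 1)
    (hφ : (φ : M → ℂ) ≠ fun _ => 1) (χ₀ : Cfsg.IrrCharacter G) (hχ₀ : irrConjEquiv G χ₀ ≠ χ₀)
    (hpair : Cfsg.indFun M ((φ : M → ℂ) - fun y => conj ((φ : M → ℂ) y)) =
      (χ₀ : G → ℂ) - fun g => conj ((χ₀ : G → ℂ) g))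
    (hNM : Subgroup.normalizer (M : Set G) ≠ M) [DecidableEq M] :
    ((M.relIndex (Subgroup.normalizer (M : Set G)) : ℝ) + 1) * ((Nat.card M : ℝ) - 1) ≤
      2 * ∑ y ∈ (Finset.univ : Finset M).erase 1, ‖(χ₀ : G → ℂ) y‖ ^ 2 := by
  classical
  haveI := Fintype.ofFinite (Cfsg.IrrCharacter G)
  haveI := Fintype.ofFinite (Cfsg.IrrCharacter M)
  haveI := hM.nil
  set e := M.relIndex (Subgroup.normalizer (M : Set G)) with he
  set a := Nat.card M with ha
  have ha0 : (a : ℂ) ≠ 0 := Nat.cast_ne_zero.2 Nat.card_pos.ne'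
  have haR : (0 : ℝ) < a := Nat.cast_pos.2 Nat.card_pos
  have hNa : (Nat.card N : ℂ) = (a : ℂ) * e := by rw [card_normalizer]; push_cast; rfl
  have heodd : Odd e := by
    have h1 := odd_card_subgroup hodd (Subgroup.normalizer (M : Set G))
    rw [card_normalizer] at h1
    exact (Nat.odd_mul.1 h1).2
  have he3 : 3 ≤ e := by
    have h1 : e ≠ 1 := fun h => hNM (le_antisymm (Subgroup.relIndex_eq_one.1 h)
      Subgroup.le_normalizer)
    obtain ⟨k, hk⟩ := heodd
    omega
  set u : M → ℂ := fun y => (χ₀ : G → ℂ) y with hu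
  have huc : Cfsg.IsCharacter M u := isCharacter_restrict M (irr_isCharacter χ₀)
  obtain ⟨n, -, hn⟩ := irr_one_pos χ₀.2
  have hu1 : u 1 = (n : ℂ) := by simp [u, hn]
  have hz : ∀ θ : Cfsg.IrrCharacter M, ∃ z : ℤ, Cfsg.classInner u (θ : M → ℂ) = (z : ℂ) :=
    fun θ => classInner_gen_int (isGen_of_isCharacter huc) (isGen_of_isCharacter (irr_isCharacter θ))
  choose z hzs using hz
  let cj := irrConjEquiv M
  have hcoe : ∀ θ : Cfsg.IrrCharacter M, ((cj θ : Cfsg.IrrCharacter M) : M → ℂ) =
      fun y => conj ((θ : M → ℂ) y) := fun θ => funext (irrConjEquiv_coe θ)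
  have hcj2 : ∀ θ : Cfsg.IrrCharacter M, cj (cj θ) = θ := fun θ => by ext y; simp [cj]
  -- `⟨u, φ - φ̄⟩ = 1`
  have hzφ : z φ = z (cj φ) + 1 := by
    have h1 := frobenius_reciprocity' M ((φ : M → ℂ) - fun y => conj ((φ : M → ℂ) y))
      (irr_isClassFunction χ₀)
    rw [hpair, classInner_sub_right, classInner_sub_right, ← hu, hzs, ← hcoe, hzs,
      show (fun g => conj ((χ₀ : G → ℂ) g)) = ((irrConjEquiv G χ₀ : Cfsg.IrrCharacter G) : G → ℂ)
        from (funext (irrConjEquiv_coe χ₀)).symm, classInner_irr, classInner_irr, if_pos rfl,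
      if_neg (Ne.symm hχ₀), sub_zero] at h1
    have : (1 : ℤ) = z φ - z (cj φ) := by exact_mod_cast h1
    omega
  -- the even part
  set lam : ℝ := 2 * n / a with hlam
  set R : M → ℂ := u + fun y => conj (u y) with hR
  set R' : M → ℂ := fun y => if y = 1 then 0 else R y with hR'
  have hR1 : R 1 = 2 * (n : ℂ) := by simp [R, hu1]; ring
  have hR'c : Cfsg.IsClassFunction M R' := by
    intro x y
    simp only [R', conj_eq_one_iff]
    split_ifs
    · rfl
    · simp [R, char_isClassFunction huc x y]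
  have hcoef : ∀ θ : Cfsg.IrrCharacter M, ∀ f : ℕ, (θ : M → ℂ) 1 = (f : ℂ) →
      Cfsg.classInner R' (θ : M → ℂ) = (((z θ + z (cj θ) : ℤ) : ℝ) - lam * f : ℝ) := by
    intro θ f hf
    have h1 : Cfsg.classInner R (θ : M → ℂ) = ((z θ + z (cj θ) : ℤ) : ℂ) := by
      have h2 := classInner_conj_conj u ((cj θ : Cfsg.IrrCharacter M) : M → ℂ)
      simp only [hzs, map_intCast] at h2
      simp only [hcoe, Complex.conj_conj] at h2
      rw [hR, classInner_add_left, hzs, h2]
      push_cast; rfl
    have h3 : Cfsg.classInner R' (θ : M → ℂ) =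
        Cfsg.classInner R (θ : M → ℂ) - (a : ℂ)⁻¹ * (R 1 * (f : ℂ)) := by
      rw [classInner_def, classInner_def, ← mul_sub]
      refine congrArg _ ?_
      rw [← Finset.add_sum_erase _ _ (Finset.mem_univ (1 : M)),
        ← Finset.add_sum_erase _ _ (Finset.mem_univ (1 : M))]
      simp only [R', if_pos, zero_mul, zero_add, hf, map_natCast, add_sub_cancel_left]
      exact Finset.sum_congr rfl fun y hy => by rw [if_neg (Finset.ne_of_mem_erase hy)]
    rw [h3, h1, hR1, hlam]
    push_cast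
    ring
  have hpars : ∑ y ∈ (Finset.univ : Finset M).erase 1, ‖R y‖ ^ 2 =
      a * ∑ θ : Cfsg.IrrCharacter M, ‖Cfsg.classInner R' (θ : M → ℂ)‖ ^ 2 := by
    have h1 := classInner_eq_sum R' hR'c
    rw [classInner_def, inv_mul_eq_iff_eq_mul₀ natCard_ne_zero] at h1
    apply Complex.ofReal_injective
    push_cast
    rw [show ∑ θ : Cfsg.IrrCharacter M, (‖Cfsg.classInner R' (θ : M → ℂ)‖ : ℂ) ^ 2 =
        ∑ θ : Cfsg.IrrCharacter M, Cfsg.classInner R' (θ : M → ℂ) *
          Cfsg.classInner (θ : M → ℂ) R' from Finset.sum_congr rfl fun θ _ => by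
      rw [classInner_conj_symm R' (θ : M → ℂ), Complex.mul_conj'], ← h1,
      ← Finset.add_sum_erase _ _ (Finset.mem_univ (1 : M))]
    simp only [R', if_pos, zero_mul, zero_add]
    exact Finset.sum_congr rfl fun y hy => by
      rw [if_neg (Finset.ne_of_mem_erase hy), Complex.mul_conj']
  -- constancy on orbits
  set c : Cfsg.IrrCharacter M → ℝ := fun θ => ‖Cfsg.classInner R' (θ : M → ℂ)‖ ^ 2 with hc
  have hc_orbit : ∀ θ η : Cfsg.IrrCharacter M, η ∈ orbit θ → c η = c θ := by
    intro θ η hη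
    obtain ⟨m, rfl⟩ := mem_orbit.1 hη
    have hR'm : tw m R' = R' := by
      funext y
      have hu' := congrFun (tw_restrict m (irr_isClassFunction χ₀)) y
      simp only [tw] at hu'
      simp only [tw, R', R, Pi.add_apply, u, hu', EmbeddingLike.map_eq_one_iff]
    show ‖Cfsg.classInner R' (tw m (θ : M → ℂ))‖ ^ 2 = ‖Cfsg.classInner R' (θ : M → ℂ)‖ ^ 2
    nth_rw 1 [← hR'm]
    rw [classInner_tw]
  have hc_val : ∀ θ : Cfsg.IrrCharacter M, ∀ f : ℕ, (θ : M → ℂ) 1 = (f : ℂ) →
      c θ = (((z θ + z (cj θ) : ℤ) : ℝ) - lam * f) ^ 2 := by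
    intro θ f hf
    rw [hc]
    simp only [hcoef θ f hf, Complex.norm_real, Real.norm_eq_abs, sq_abs]
  have hc_cj : ∀ θ, c (cj θ) = c θ := by
    intro θ
    obtain ⟨f, -, hf⟩ := irr_one_pos θ.2
    rw [hc_val θ f hf, hc_val (cj θ) f (by simp [hcoe, hf]), hcj2, add_comm (z θ)]
  -- orbits
  have hφ' : ((cj φ : Cfsg.IrrCharacter M) : M → ℂ) ≠ fun _ => 1 := by
    rw [hcoe]; exact conj_ne_one hφ
  set O₁ := orbit φ
  set O₂ := orbit (cj φ)
  have h12 : cj φ ∉ O₁ := fun h => by
    obtain ⟨m, hm⟩ := mem_orbit.1 h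
    exact tw_ne_conj hM hodd m φ.2 hφ ((congrArg Subtype.val hm).trans (hcoe φ))
  have hnotriv : ∀ θ : Cfsg.IrrCharacter M, (θ : M → ℂ) ≠ (fun _ => 1) → trivIrr M ∉ orbit θ := by
    intro θ hθ h
    obtain ⟨m, hm⟩ := mem_orbit.1 (mem_orbit_symm h)
    exact hθ (congrArg Subtype.val hm).symm
  have hdeg : ∀ θ η : Cfsg.IrrCharacter M, η ∈ orbit θ → (η : M → ℂ) 1 = (θ : M → ℂ) 1 := by
    intro θ η h
    obtain ⟨m, rfl⟩ := mem_orbit.1 h
    show (θ : M → ℂ) _ = _
    rw [map_one]
  set U := insert (trivIrr M) (O₁ ∪ O₂)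
  have hUlin : ∀ θ ∈ U, (θ : M → ℂ) 1 = 1 := by
    intro θ hθ
    simp only [U, Finset.mem_insert, Finset.mem_union] at hθ
    rcases hθ with rfl | h | h
    · rfl
    · rw [hdeg φ θ h, hφ1]
    · rw [hdeg _ θ h, hcoe]; simp [hφ1]
  have hUcard : U.card = 2 * e + 1 := by
    rw [Finset.card_insert_of_notMem (by
      rw [Finset.mem_union]; exact fun h => h.elim (hnotriv φ hφ) (hnotriv _ hφ')),
      Finset.card_union_of_disjoint (disjoint_orbit h12), card_orbit hM hφ, card_orbit hM hφ']
    omega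
  -- the key inequality for the even part
  have hkey : 2 * ((a : ℝ) - e - 1) ≤ ∑ y ∈ (Finset.univ : Finset M).erase 1, ‖R y‖ ^ 2 := by
    rw [hpars]
    by_cases hall : ∀ θ : Cfsg.IrrCharacter M, θ ∈ U
    · have hUuniv : U = Finset.univ := Finset.eq_univ_iff_forall.2 hall
      have hae : a = 2 * e + 1 := by
        have h1 := sum_degree_sq (G := M)
        rw [Finset.sum_congr rfl fun (θ : Cfsg.IrrCharacter M) _ => (by rw [hUlin θ (hall θ), one_pow] :
          (θ : M → ℂ) 1 ^ 2 = 1), Finset.sum_const, Finset.card_univ, nsmul_one] at h1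
        rw [← hUcard, hUuniv, Finset.card_univ]
        exact_mod_cast h1.symm
      have hsum : ∑ θ, c θ = c (trivIrr M) + 2 * e * c φ := by
        rw [← hUuniv, Finset.sum_insert (by
          rw [Finset.mem_union]; exact fun h => h.elim (hnotriv φ hφ) (hnotriv _ hφ')),
          Finset.sum_union (disjoint_orbit h12), Finset.sum_congr rfl (hc_orbit φ),
          Finset.sum_congr rfl (hc_orbit (cj φ)), Finset.sum_const, Finset.sum_const,
          card_orbit hM hφ, card_orbit hM hφ', hc_cj, nsmul_eq_mul]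
        ring
      rw [hsum, hc_val (trivIrr M) 1 (by simp), hc_val φ 1 (by simp [hφ1])]
      have htriv : cj (trivIrr M) = trivIrr M := by ext y; simp [cj]
      rw [htriv, hzφ, hae]
      push_cast
      set x : ℝ := (z (trivIrr M) : ℝ) + z (trivIrr M) - lam * 1
      set w : ℝ := (z (cj φ) : ℝ) + 1 + z (cj φ) - lam * 1
      have hk : 1 ≤ (x - w) ^ 2 := by
        have : x - w = ((2 * (z (trivIrr M) - z (cj φ)) - 1 : ℤ) : ℝ) := by
          simp only [x, w]; push_cast; ring
        rw [this]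
        have h2 : (1 : ℤ) ≤ (2 * (z (trivIrr M) - z (cj φ)) - 1) ^ 2 := by
          rcases le_or_gt 1 (z (trivIrr M) - z (cj φ)) with h | h <;> nlinarith
        exact_mod_cast h2
      have : (e : ℝ) * 1 ≤ e * (x - w) ^ 2 := mul_le_mul_of_nonneg_left hk (Nat.cast_nonneg _)
      nlinarith [sq_nonneg (x + 2 * e * w)]
    · push Not at hall
      obtain ⟨θ, hθU, f, hf, hfodd, hfe⟩ : ∃ θ : Cfsg.IrrCharacter M, θ ∉ U ∧
          ∃ f : ℕ, (θ : M → ℂ) 1 = (f : ℂ) ∧ Odd f ∧ f ^ 2 + 1 ≤ e := by
        by_cases hlin : ∃ θ : Cfsg.IrrCharacter M, θ ∉ U ∧ (θ : M → ℂ) 1 = 1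
        · obtain ⟨θ, h1, h2⟩ := hlin
          exact ⟨θ, h1, 1, by simp [h2], odd_one, by omega⟩
        push Not at hlin
        have hL : (commutator M).index = 2 * e + 1 := by
          rw [← card_degree_one, ← hUcard, Nat.card_eq_fintype_card, Fintype.card_subtype]
          congr 1
          ext θ
          simp only [Finset.mem_filter, Finset.mem_univ, true_and]
          exact ⟨fun h => by by_contra h'; exact hlin θ h' h, hUlin θ⟩
        have hnc : commutator M ≠ ⊥ := by
          intro h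
          obtain ⟨θ, hθ⟩ := hall
          refine hlin θ hθ (irr_degree_one_of_comm (fun x y => ?_) θ.2)
          rw [commutator_def, Subgroup.commutator_eq_bot_iff_le_centralizer] at h
          exact ((Subgroup.mem_centralizer_iff.1 (h (Subgroup.mem_top x))) y
            (Subgroup.mem_top y)).symm
        obtain ⟨θ, f, hf, hf1, hfd⟩ := exists_nonlinear_sq_dvd hnc
        have hfodd : Odd f := by
          obtain ⟨f', hf', -, hd⟩ := irr_degree_dvd_card θ.2
          have : f = f' := by exact_mod_cast hf.symm.trans hf'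
          obtain ⟨q, hq⟩ := this ▸ hd
          exact (Nat.odd_mul.1 (hq ▸ odd_card_subgroup hodd M)).1
        refine ⟨θ, fun h => ?_, f, hf, hfodd, ?_⟩
        · have := hUlin θ h
          rw [hf] at this
          have : f = 1 := by exact_mod_cast this
          omega
        · rw [hL] at hfd
          obtain ⟨q, hq⟩ := hfd
          obtain ⟨k, hk⟩ := heodd
          obtain ⟨j, hj⟩ := hfodd
          have hqodd : q % 2 = 1 := by
            rcases Nat.even_or_odd q with ⟨r, hr⟩ | ⟨r, hr⟩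
            · subst hr; ring_nf at hq; omega
            · omega
          have hq3 : 3 ≤ q := by
            by_contra h'
            have : q = 1 := by omega
            rw [this, hj, hk] at hq
            ring_nf at hq
            omega
          have hf3 : 3 ≤ f := by omega
          have hf9 : 9 ≤ f ^ 2 := by nlinarith
          nlinarith
      set O₃ := orbit θ
      set O₄ := orbit (cj θ)
      have hθne : (θ : M → ℂ) ≠ fun _ => 1 := fun h => hθU (by
        rw [show θ = trivIrr M from Subtype.ext h]; exact Finset.mem_insert_self _ _)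
      have hθ' : ((cj θ : Cfsg.IrrCharacter M) : M → ℂ) ≠ fun _ => 1 := by
        rw [hcoe]; exact conj_ne_one hθne
      have hcjorb : ∀ η ξ : Cfsg.IrrCharacter M, ξ ∈ orbit η → cj ξ ∈ orbit (cj η) := by
        intro η ξ h
        obtain ⟨m, rfl⟩ := mem_orbit.1 h
        exact mem_orbit.2 ⟨m, by ext y; simp [twIrr, tw, cj]⟩
      have h31 : θ ∉ O₁ := fun h => hθU (Finset.mem_insert_of_mem (Finset.mem_union_left _ h))
      have h32 : θ ∉ O₂ := fun h => hθU (Finset.mem_insert_of_mem (Finset.mem_union_right _ h))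
      have h41 : cj θ ∉ O₁ := fun h => h32 (by simpa [hcj2] using hcjorb _ _ h)
      have h42 : cj θ ∉ O₂ := fun h => h31 (by simpa [hcj2] using hcjorb _ _ h)
      have h34 : cj θ ∉ O₃ := fun h => by
        obtain ⟨m, hm⟩ := mem_orbit.1 h
        exact tw_ne_conj hM hodd m θ.2 hθne ((congrArg Subtype.val hm).trans (hcoe θ))
      have hle : c φ * e + c φ * e + (c θ * e + c θ * e) ≤ ∑ η, c η := by
        refine le_trans (le_of_eq ?_)
          (Finset.sum_le_sum_of_subset_of_nonneg (Finset.subset_univ ((O₁ ∪ O₂) ∪ (O₃ ∪ O₄)))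
            fun η _ _ => sq_nonneg _)
        have hd1 : Disjoint (O₁ ∪ O₂) (O₃ ∪ O₄) := by
          rw [Finset.disjoint_union_left, Finset.disjoint_union_right, Finset.disjoint_union_right]
          exact ⟨⟨disjoint_orbit h31, disjoint_orbit h41⟩, disjoint_orbit h32, disjoint_orbit h42⟩
        rw [Finset.sum_union hd1, Finset.sum_union (disjoint_orbit h12),
          Finset.sum_union (disjoint_orbit h34), Finset.sum_congr rfl (hc_orbit φ),
          Finset.sum_congr rfl (hc_orbit (cj φ)), Finset.sum_congr rfl (hc_orbit θ),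
          Finset.sum_congr rfl (hc_orbit (cj θ))]
        simp only [Finset.sum_const, card_orbit hM hφ, card_orbit hM hφ', card_orbit hM hθne,
          card_orbit hM hθ', hc_cj, nsmul_eq_mul]
        ring
      -- the coefficient of `χ₀` in `Ind (θ + θ̄ - f φ - f φ̄)` is odd
      set α : M → ℂ := (fun _ => (1 : ℂ)) - (φ : M → ℂ) with hαdef
      set β : M → ℂ := (θ : M → ℂ) + ((cj θ : Cfsg.IrrCharacter M) : M → ℂ) -
        (((f : ℤ) : ℂ) • (φ : M → ℂ) + ((f : ℤ) : ℂ) • ((cj φ : Cfsg.IrrCharacter M) : M → ℂ))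
        with hβdef
      have hβ1 : β 1 = 0 := by simp [β, hcoe, hf, hφ1]
      set Δ := Cfsg.indFun M β
      set Φ := Cfsg.indFun M α
      have hΔgen : Cfsg.IsGeneralizedCharacter G Δ := isGen_indFun M (isGen_sub
        (isGen_add (isGen_of_isCharacter (irr_isCharacter θ))
          (isGen_of_isCharacter (irr_isCharacter (cj θ))))
        (isGen_add (isGen_intSmul (isGen_of_isCharacter (irr_isCharacter φ)) _)
          (isGen_intSmul (isGen_of_isCharacter (irr_isCharacter (cj φ))) _)))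
      have hΦgen : Cfsg.IsGeneralizedCharacter G Φ := isGen_indFun M
        (isGen_sub (isGen_of_isCharacter isCharacter_one) (isGen_of_isCharacter (irr_isCharacter φ)))
      have hS : ∀ η : Cfsg.IrrCharacter M, η ∉ O₁ → S (η : M → ℂ) (φ : M → ℂ) = 0 :=
        fun η hη => S_eq_zero η.2 φ.2 fun m hm => hη (mem_orbit_symm
          (mem_orbit.2 ⟨m, Subtype.ext hm⟩))
      have hΔΦ : Cfsg.classInner Δ Φ = ((f : ℤ) : ℂ) := by
        rw [inner_indFun hM hβ1, hαdef, hβdef]
        simp only [S_sub_left, S_add_left, S_smul_left, S_sub_right]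
        rw [S_one_right θ.2 hθne, S_one_right (cj θ).2 hθ', S_one_right φ.2 hφ,
          S_one_right (cj φ).2 hφ', S_self hM φ.2 hφ, hS θ h31, hS (cj θ) h41, hS (cj φ) h12]
        field_simp
        ring
      set d := Lattice.coeff Φ
      set g := Lattice.coeff Δ with hg
      have hgreal : ∀ χ, g (irrConjEquiv G χ) = g χ := by
        intro χ
        refine Lattice.coeff_eq_of_inner ?_
        have hΔc : (fun x => conj (Δ x)) = Δ := by
          funext x
          rw [← indFun_conjFun]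
          refine congrFun (congrArg (Cfsg.indFun M) (funext fun y => ?_)) x
          simp [β, hcoe]
          ring
        have h1 := classInner_conj_conj Δ (χ : G → ℂ)
        rw [hΔc, Lattice.coeff_spec hΔgen, map_intCast] at h1
        rw [show ((irrConjEquiv G χ : Cfsg.IrrCharacter G) : G → ℂ) =
          fun x => conj ((χ : G → ℂ) x) from funext (irrConjEquiv_coe χ), h1]
      have hg0 : g χ₀ ≠ 0 := by
        intro h0
        have hsum := Lattice.inner_eq_sum hΔgen hΦgen
        rw [hΔΦ, Int.cast_inj] at hsum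
        have hfree : ∀ χ : Cfsg.IrrCharacter G, g χ ≠ 0 → irrConjEquiv G χ ≠ χ := by
          intro χ hχ e'
          have htriv : χ = trivIrr G := Subtype.ext (S0161.result hodd χ fun x =>
            Complex.conj_eq_iff_im.1 (by rw [← irrConjEquiv_coe, e']))
          refine hχ ?_
          rw [htriv, hg]
          refine Lattice.coeff_eq_of_inner ?_
          rw [trivIrr_coe, frobenius_reciprocity M _ (char_isClassFunction isCharacter_one), hβdef]
          simp only [classInner_sub_left, classInner_add_left, classInner_smul_left,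
            classInner_isIrr_ne θ.2 isIrrCharacter_one hθne,
            classInner_isIrr_ne (cj θ).2 isIrrCharacter_one hθ',
            classInner_isIrr_ne φ.2 isIrrCharacter_one hφ,
            classInner_isIrr_ne (cj φ).2 isIrrCharacter_one hφ']
          simp
        have hd : ∀ χ, g χ * d (irrConjEquiv G χ) = g χ * d χ := by
          intro χ
          by_cases h1 : χ = χ₀
          · rw [h1, h0, zero_mul, zero_mul]
          by_cases h2 : χ = irrConjEquiv G χ₀
          · rw [h2, hgreal, h0, zero_mul, zero_mul]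
          congr 1
          refine Lattice.coeff_eq_of_inner ?_
          have hΦc : (fun x => conj (Φ x)) =
              Φ + ((χ₀ : G → ℂ) - fun x => conj ((χ₀ : G → ℂ) x)) := by
            rw [← hpair, ← indFun_add]
            funext x
            rw [← indFun_conjFun]
            exact congrFun (congrArg (Cfsg.indFun M) (funext fun y => by simp [α])) x
          have h3 := classInner_conj_conj Φ (χ : G → ℂ)
          rw [hΦc, classInner_add_left, classInner_sub_left, Lattice.coeff_spec hΦgen,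
            map_intCast] at h3
          rw [show (fun x => conj ((χ₀ : G → ℂ) x)) =
              ((irrConjEquiv G χ₀ : Cfsg.IrrCharacter G) : G → ℂ) from
              (funext (irrConjEquiv_coe χ₀)).symm,
            show (fun x => conj ((χ : G → ℂ) x)) =
              ((irrConjEquiv G χ : Cfsg.IrrCharacter G) : G → ℂ) from
              (funext (irrConjEquiv_coe χ)).symm, classInner_irr, classInner_irr, if_neg, if_neg,
            sub_self, add_zero] at h3
          · exact h3
          · exact fun h' => h1 ((irrConjEquiv G).injective h').symm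
          · intro h'
            exact h2 (by rw [h']; ext x; simp)
        obtain ⟨t, -, ht⟩ := sum_invol _ (fun χ => by ext x; simp : ∀ χ : Cfsg.IrrCharacter G,
            irrConjEquiv G (irrConjEquiv G χ) = χ) (fun χ => g χ * d χ)
          (fun χ => by simp only [hgreal]; exact hd χ)
          (Finset.univ.filter fun χ => g χ ≠ 0) (fun χ hχ => by
            rw [Finset.mem_filter] at hχ ⊢
            exact ⟨⟨Finset.mem_univ _, by rw [hgreal]; exact hχ.2⟩, hfree χ hχ.2⟩)
        rw [Finset.sum_filter_of_ne fun χ _ hne => left_ne_zero_of_mul hne] at ht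
        rw [ht] at hsum
        obtain ⟨j, hj⟩ := hfodd
        omega
      have hgval : g χ₀ = z θ + z (cj θ) - f * (z φ + z (cj φ)) := by
        refine Lattice.coeff_eq_of_inner ?_
        rw [frobenius_reciprocity M _ (irr_isClassFunction χ₀), ← hu,
          classInner_conj_symm u β, hβdef]
        simp only [classInner_sub_right, classInner_add_right, classInner_smul_right, hzs,
          map_intCast, map_sub, map_add, map_mul]
        push_cast
        ring
      rw [hc_val φ 1 (by simp [hφ1]), hc_val θ f hf] at hle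
      set x : ℝ := ((z φ + z (cj φ) : ℤ) : ℝ) - lam * ((1 : ℕ) : ℝ) with hx
      set w : ℝ := ((z θ + z (cj θ) : ℤ) : ℝ) - lam * (f : ℝ) with hw
      have hk : 1 ≤ (w - f * x) ^ 2 := by
        have : w - f * x = (g χ₀ : ℝ) := by
          rw [hgval, hx, hw]; push_cast; ring
        rw [this]
        have h2 : (1 : ℤ) ≤ g χ₀ ^ 2 := by
          have : 0 < g χ₀ ^ 2 := by positivity
          omega
        exact_mod_cast h2
      have hfe' : (f : ℝ) ^ 2 + 1 ≤ e := by exact_mod_cast hfe
      have hxw : 1 ≤ (e : ℝ) * (x ^ 2 + w ^ 2) := by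
        nlinarith [sq_nonneg (x + f * w), mul_le_mul_of_nonneg_right hfe'
          (add_nonneg (sq_nonneg x) (sq_nonneg w))]
      have h2 : (2 : ℝ) ≤ ∑ η, c η := by nlinarith
      have : 2 * ((a : ℝ) - e - 1) ≤ a * 2 := by
        have : (0 : ℝ) ≤ e := Nat.cast_nonneg _
        linarith
      exact this.trans (mul_le_mul_of_nonneg_left h2 haR.le)
  -- the odd part
  have hodd2 : ∑ y ∈ (Finset.univ : Finset M).erase 1, ‖u y - conj (u y)‖ ^ 2 = 2 * e * a := by
    set δ : M → ℂ := (φ : M → ℂ) - fun y => conj ((φ : M → ℂ) y) with hδdef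
    have hδ1 : δ 1 = 0 := by simp [δ, hφ1]
    have hval : (fun y : M => u y - conj (u y)) = fun y : M => Cfsg.indFun M δ y := by
      funext y
      rw [hpair]; rfl
    have hnorm : Cfsg.classInner (Cfsg.indFun M δ) (Cfsg.indFun M δ) = 2 := by
      rw [hpair, show (fun g => conj ((χ₀ : G → ℂ) g)) =
        ((irrConjEquiv G χ₀ : Cfsg.IrrCharacter G) : G → ℂ) from
        (funext (irrConjEquiv_coe χ₀)).symm, classInner_sub_left, classInner_sub_right,
        classInner_sub_right, classInner_irr, classInner_irr, classInner_irr, classInner_irr,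
        if_pos rfl, if_pos rfl, if_neg (Ne.symm hχ₀), if_neg hχ₀]
      norm_num
    have h1 : Cfsg.classInner (fun y : M => Cfsg.indFun M δ y)
        (fun y : M => Cfsg.indFun M δ y) = 2 * (e : ℂ) := by
      have hexp : (fun y : M => Cfsg.indFun M δ y) = (a : ℂ)⁻¹ • ∑ m : N, tw m δ := by
        funext y
        simp [indFun_coe hM hδ1 y, Finset.sum_apply, ha]
      have hterm : ∀ m : N, Cfsg.classInner (tw m δ) (fun y : M => Cfsg.indFun M δ y) = 2 := by
        intro m
        rw [← tw_restrict m (indFun_isClassFunction M δ), classInner_tw,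
          ← frobenius_reciprocity M δ (indFun_isClassFunction M δ), hnorm]
      conv_lhs => arg 1; rw [hexp]
      rw [classInner_smul_left, classInner_sum_left, Finset.sum_congr rfl fun m _ => hterm m,
        Finset.sum_const, Finset.card_univ, nsmul_eq_mul, ← Nat.card_eq_fintype_card, hNa]
      field_simp
    rw [← hval, classInner_def, inv_mul_eq_iff_eq_mul₀ natCard_ne_zero] at h1
    have h2 : ((∑ y ∈ (Finset.univ : Finset M).erase 1, ‖u y - conj (u y)‖ ^ 2 : ℝ) : ℂ) =
        ((2 * e * a : ℝ) : ℂ) := by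
      push_cast
      rw [← Finset.add_sum_erase _ _ (Finset.mem_univ (1 : M))] at h1
      simp only [hu1, map_natCast, sub_self, zero_mul, zero_add] at h1
      rw [show (2 : ℂ) * e * a = a * (2 * e) by ring, ← h1]
      exact Finset.sum_congr rfl fun y _ => (Complex.mul_conj' _).symm
    exact Complex.ofReal_injective h2
  have hsplit : ∀ y : M, ‖R y‖ ^ 2 + ‖u y - conj (u y)‖ ^ 2 = 4 * ‖(χ₀ : G → ℂ) y‖ ^ 2 := by
    intro y
    simp only [R, Pi.add_apply, Complex.sq_norm, Complex.normSq_apply, Complex.add_re,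
      Complex.add_im, Complex.sub_re, Complex.sub_im, Complex.conj_re, Complex.conj_im, u]
    ring
  have htot : ∑ y ∈ (Finset.univ : Finset M).erase 1, ‖R y‖ ^ 2 +
      ∑ y ∈ (Finset.univ : Finset M).erase 1, ‖u y - conj (u y)‖ ^ 2 =
      4 * ∑ y ∈ (Finset.univ : Finset M).erase 1, ‖(χ₀ : G → ℂ) y‖ ^ 2 := by
    rw [← Finset.sum_add_distrib, Finset.mul_sum]
    exact Finset.sum_congr rfl fun y _ => hsplit y
  rw [hodd2] at htot
  nlinarith

end Cfsg.Agent.CN
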