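import Mathlib
import Cfsg.Agent.Lib.CN.Special
import Cfsg.Agent.Lib.Characters.Galois

/-!
# No odd group without linear characters is covered by self-centralising nilpotent subgroups
-/

set_option linter.style.haveILetI false
set_option linter.unusedSectionVars false

namespace Cfsg.Agent.CN

open Cfsg.Agent.Characters
open scoped ComplexConjugate

universe u

variable {G : Type u} [Group G]

theorem inT_iff_of_meet {M M' : Subgroup G} (hM : CentMax M) (hM' : CentMax M') {g : G}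
    (hg : InT M g) (hg' : InT M' g) (h : G) : InT M h ↔ InT M' h := by
  obtain ⟨hg1, x, hx⟩ := hg
  obtain ⟨-, w, hw⟩ := hg'
  have he := (hM.map x).eq_of_meet (hM'.map w) (y := g) ⟨_, hx, by simp [mul_assoc]⟩
    ⟨_, hw, by simp [mul_assoc]⟩ hg1
  constructor
  · rintro ⟨h1, t, ht⟩
    refine ⟨h1, t * x⁻¹ * w, ?_⟩
    have : x * (t⁻¹ * h * t) * x⁻¹ ∈ M'.map (MulAut.conj w).toMonoidHom :=
      he ▸ ⟨_, ht, by simp⟩
    obtain ⟨z, hz, hze⟩ := this
    simp only [MulEquiv.coe_toMonoidHom, MulAut.conj_apply] at hze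
    rwa [show (t * x⁻¹ * w)⁻¹ * h * (t * x⁻¹ * w) = z by
      calc (t * x⁻¹ * w)⁻¹ * h * (t * x⁻¹ * w) = w⁻¹ * (x * (t⁻¹ * h * t) * x⁻¹) * w := by group
        _ = z := by rw [← hze]; group]
  · rintro ⟨h1, t, ht⟩
    refine ⟨h1, t * w⁻¹ * x, ?_⟩
    have : w * (t⁻¹ * h * t) * w⁻¹ ∈ M.map (MulAut.conj x).toMonoidHom :=
      he.symm ▸ ⟨_, ht, by simp⟩
    obtain ⟨z, hz, hze⟩ := this
    simp only [MulEquiv.coe_toMonoidHom, MulAut.conj_apply] at hze
    rwa [show (t * w⁻¹ * x)⁻¹ * h * (t * w⁻¹ * x) = z by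
      calc (t * w⁻¹ * x)⁻¹ * h * (t * w⁻¹ * x) = x⁻¹ * (w * (t⁻¹ * h * t) * w⁻¹) * x := by group
        _ = z := by rw [← hze]; group]

theorem inT_pow [Finite G] {M : Subgroup G} {g : G} (hg : InT M g) {k : ℕ}
    (hk : k.Coprime (Nat.card G)) : InT M (g ^ k) := by
  obtain ⟨h1, x, hx⟩ := hg
  refine ⟨fun h => h1 ((powCoprime hk.symm).injective (by simpa using h)), x, ?_⟩
  rw [show x⁻¹ * g ^ k * x = (x⁻¹ * g * x) ^ k by simpa using (conj_pow (a := x⁻¹) (b := g) (i := k)).symm]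
  exact pow_mem hx k

/-- Summing a class function over the conjugates of `M#`. -/
theorem card_normalizer_mul_sum [Fintype G] {M : Subgroup G} [Fintype M] [DecidableEq M]
    [DecidablePred (InT M)] (hM : CentMax M) (f : G → ℝ) (hf : ∀ g x : G, f (x * g * x⁻¹) = f g) :
    (Nat.card (Subgroup.normalizer (M : Set G)) : ℝ) * ∑ g ∈ Finset.univ.filter (InT M), f g =
      (Nat.card G : ℝ) * ∑ y ∈ (Finset.univ : Finset M).erase 1, f y := by
  classical
  set P := (Finset.univ : Finset G) ×ˢ ((Finset.univ : Finset M).erase 1) with hP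
  set F : G × M → G := fun p => p.1 * (p.2 : G) * p.1⁻¹
  have hmaps : ∀ p ∈ P, F p ∈ Finset.univ.filter (InT M) := by
    rintro ⟨x, y⟩ hp
    rw [hP, Finset.mem_product, Finset.mem_erase] at hp
    refine Finset.mem_filter.2 ⟨Finset.mem_univ _, fun h => hp.2.1 ?_, x, ?_⟩
    · exact Subtype.ext (by simpa [F] using h)
    · simp [F, mul_assoc]
  have hfib : ∀ g ∈ Finset.univ.filter (InT M),
      (P.filter fun p => F p = g).card = Nat.card (Subgroup.normalizer (M : Set G)) := by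
    intro g hg
    obtain ⟨hg1, x, hx⟩ := (Finset.mem_filter.1 hg).2
    have key : ∀ p ∈ P.filter (fun p => F p = g), x⁻¹ * p.1 ∈ Subgroup.normalizer (M : Set G) := by
      rintro ⟨u, y⟩ hp
      simp only [Finset.mem_filter, F] at hp
      refine hM.mem_normalizer hx (fun h => hg1 ?_) ?_
      · calc g = x * (x⁻¹ * g * x) * x⁻¹ := by group
          _ = 1 := by rw [h]; group
      · rw [← hp.2, show (x⁻¹ * u)⁻¹ * (x⁻¹ * (u * (y : G) * u⁻¹) * x) * (x⁻¹ * u) = (y : G) by group]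
        exact y.2
    rw [← Fintype.card_coe, ← Nat.card_eq_fintype_card]
    refine Nat.card_congr
      { toFun := fun p => ⟨x⁻¹ * p.1.1, key p.1 p.2⟩
        invFun := fun n => ⟨(x * n, ⟨(n : G)⁻¹ * (x⁻¹ * g * x) * n,
          (Subgroup.mem_normalizer_iff''.1 n.2 _).1 hx⟩), ?_⟩
        left_inv := ?_
        right_inv := fun n => Subtype.ext (by simp) }
    · simp only [Finset.mem_filter, hP, Finset.mem_product, Finset.mem_univ, Finset.mem_erase,
        and_true, true_and, F]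
      refine ⟨fun h => hg1 ?_, by group⟩
      have h' := congrArg Subtype.val h
      simp only [OneMemClass.coe_one] at h'
      calc g = x * n * ((n : G)⁻¹ * (x⁻¹ * g * x) * n) * (x * n)⁻¹ := by group
        _ = 1 := by rw [h']; group
    · rintro ⟨⟨u, y⟩, hp⟩
      simp only [Finset.mem_filter, F] at hp
      refine Subtype.ext (Prod.ext (by simp) (Subtype.ext ?_))
      show (x⁻¹ * u)⁻¹ * (x⁻¹ * g * x) * (x⁻¹ * u) = (y : G)
      rw [← hp.2]; group
  have h1 : ∑ p ∈ P, f (F p) = (Nat.card G : ℝ) * ∑ y ∈ (Finset.univ : Finset M).erase 1, f y := by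
    rw [hP, Finset.sum_product, Nat.card_eq_fintype_card, ← nsmul_eq_mul, ← Finset.card_univ,
      ← Finset.sum_const]
    exact Finset.sum_congr rfl fun x _ => Finset.sum_congr rfl fun y _ => hf y x
  rw [← h1, ← Finset.sum_fiberwise_of_maps_to hmaps, Finset.mul_sum]
  refine Finset.sum_congr rfl fun g hg => ?_
  rw [Finset.sum_congr rfl (fun p hp => by rw [(Finset.mem_filter.1 hp).2] :
    ∀ p ∈ P.filter (fun p => F p = g), f (F p) = f g), Finset.sum_const, hfib g hg, nsmul_eq_mul]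

/-- The counting contradiction. -/
theorem count_false [Finite G] [Nontrivial G] (hodd : Odd (Nat.card G))
    (hcov : ∀ g : G, g ≠ 1 → ∃ M : Subgroup G, CentMax M ∧ g ∈ M)
    (hN : ∀ M : Subgroup G, CentMax M → Subgroup.normalizer (M : Set G) ≠ M)
    (hlin : ∀ χ : Cfsg.IrrCharacter G, χ ≠ trivIrr G → (χ : G → ℂ) 1 ≠ 1) : False := by
  classical
  haveI := Fintype.ofFinite G
  let T : Subgroup G → Finset G := fun M => Finset.univ.filter (InT M)
  obtain ⟨g₀, hg₀⟩ := exists_ne (1 : G)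
  obtain ⟨M₁, hM₁, -⟩ := hcov g₀ hg₀
  obtain ⟨M₀, hM₀', hmax⟩ := Finset.exists_max_image
    ((Finset.univ : Finset (Subgroup G)).filter CentMax) (fun M => (T M).card)
    ⟨M₁, Finset.mem_filter.2 ⟨Finset.mem_univ _, hM₁⟩⟩
  have hM₀ : CentMax M₀ := (Finset.mem_filter.1 hM₀').2
  obtain ⟨φ, hφ1, hφ⟩ := exists_linear hM₀
  obtain ⟨χ₀, hχ₀, hpair⟩ := exists_pair hM₀ hodd φ.2 hφ
  have hrealoff : ∀ g, ¬ InT M₀ g → conj ((χ₀ : G → ℂ) g) = (χ₀ : G → ℂ) g := by
    intro g hg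
    have h := congrFun hpair g
    rw [indFun_eq_zero_of_not_inT (by simp [hφ1]) hg] at h
    exact (sub_eq_zero.1 h.symm).symm
  set e := M₀.relIndex (Subgroup.normalizer (M₀ : Set G))
  -- the partition
  have hT : ∀ g : G, g ≠ 1 → ∃ M : Subgroup G, CentMax M ∧ InT M g := fun g hg => by
    obtain ⟨M, hM, hgM⟩ := hcov g hg
    exact ⟨M, hM, hg, 1, by simpa using hgM⟩
  choose! Mof hMof hgof using hT
  let F : G → Finset G := fun g => T (Mof g)
  set E := (Finset.univ : Finset G).erase 1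
  set 𝒯 := E.image F
  have hEne : ∀ g ∈ E, g ≠ 1 := fun g hg => Finset.ne_of_mem_erase hg
  have hTeq : ∀ M M' : Subgroup G, CentMax M → CentMax M' → ∀ g, InT M g → InT M' g → T M = T M' :=
    fun M M' h h' g hg hg' => Finset.ext fun x => by
      simp [T, inT_iff_of_meet h h' hg hg' x]
  have hfibre : ∀ τ ∈ 𝒯, E.filter (fun g => F g = τ) = τ := by
    intro τ hτ
    obtain ⟨g, hg, rfl⟩ := Finset.mem_image.1 hτ
    ext x
    simp only [Finset.mem_filter, E, Finset.mem_erase, Finset.mem_univ, and_true]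
    constructor
    · rintro ⟨hx, hxe⟩
      rw [← hxe]
      exact Finset.mem_filter.2 ⟨Finset.mem_univ _, hgof x hx⟩
    · intro hx
      have hx' := (Finset.mem_filter.1 hx).2
      exact ⟨hx'.1, hTeq _ _ (hMof x hx'.1) (hMof g (hEne g hg)) x (hgof x hx'.1) hx'⟩
  have hsumE : ∀ f : G → ℝ, ∑ g ∈ E, f g = ∑ τ ∈ 𝒯, ∑ g ∈ τ, f g := fun f => by
    rw [← Finset.sum_fiberwise_of_maps_to (fun g hg => Finset.mem_image_of_mem F hg)]
    exact Finset.sum_congr rfl fun τ hτ => by rw [hfibre τ hτ]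
  have hT₀ : T M₀ ∈ 𝒯 := by
    haveI : Nontrivial M₀ := (Subgroup.nontrivial_iff_ne_bot _).2 hM₀.ne_bot
    obtain ⟨⟨y, hy⟩, hy1⟩ := exists_ne (1 : M₀)
    have hy1' : y ≠ 1 := fun h => hy1 (Subtype.ext h)
    exact Finset.mem_image.2 ⟨y, Finset.mem_erase.2 ⟨hy1', Finset.mem_univ _⟩,
      hTeq _ _ (hMof y hy1') hM₀ y (hgof y hy1') ⟨hy1', 1, by simpa using hy⟩⟩
  have hTle : ∀ τ ∈ 𝒯, τ.card ≤ (T M₀).card := fun τ hτ => by
    obtain ⟨g, hg, rfl⟩ := Finset.mem_image.1 hτ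
    exact hmax _ (Finset.mem_filter.2 ⟨Finset.mem_univ _, hMof g (hEne g hg)⟩)
  -- zeros
  set Out := (𝒯.erase (T M₀)).filter fun τ => ∃ y ∈ τ, (χ₀ : G → ℂ) y = 0
  have hex : ∀ τ ∈ Out, ∃ y ∈ τ, (χ₀ : G → ℂ) y = 0 := fun τ hτ => (Finset.mem_filter.1 hτ).2
  choose! y hyτ hy0 using hex
  have hOT : ∀ τ ∈ Out, τ ∈ 𝒯 ∧ τ ≠ T M₀ := fun τ hτ =>
    ⟨Finset.mem_of_mem_erase (Finset.mem_filter.1 hτ).1,
      Finset.ne_of_mem_erase (Finset.mem_filter.1 hτ).1⟩
  have hyF : ∀ τ ∈ Out, y τ ≠ 1 ∧ F (y τ) = τ := fun τ hτ => by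
    have h := (Finset.ext_iff.1 (hfibre τ (hOT τ hτ).1) (y τ)).2 (hyτ τ hτ)
    exact ⟨hEne _ (Finset.mem_filter.1 h).1, (Finset.mem_filter.1 h).2⟩
  have hyinj : Set.InjOn y (Out : Set (Finset G)) := fun τ hτ τ' hτ' h => by
    rw [← (hyF τ hτ).2, ← (hyF τ' hτ').2, h]
  have hbound := out_bound hM₀ hodd φ hφ1 hφ χ₀ hχ₀ hpair (Out.image y)
    (fun z hz => by
      obtain ⟨τ, hτ, rfl⟩ := Finset.mem_image.1 hz
      refine ⟨(hyF τ hτ).1, fun h => (hOT τ hτ).2 ?_, hy0 τ hτ⟩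
      rw [← (hyF τ hτ).2]
      exact hTeq _ _ (hMof _ h.1) hM₀ _ (hgof _ h.1) h)
    (fun z hz z' hz' χ h h' => by
      obtain ⟨τ, hτ, rfl⟩ := Finset.mem_image.1 hz
      obtain ⟨τ', hτ', rfl⟩ := Finset.mem_image.1 hz'
      obtain ⟨h1, hF1⟩ := hyF τ hτ
      obtain ⟨h1', hF1'⟩ := hyF τ' hτ'
      congr 1
      by_contra hne
      refine h' (real_of_not_inT (hMof _ h1) hodd χ (hgof _ h1) h fun hin => hne ?_)
      rw [← hF1, ← hF1']
      exact hTeq _ _ (hMof _ h1) (hMof _ h1') _ hin (hgof _ h1'))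
  rw [Finset.card_image_of_injOn hyinj] at hbound
  -- norms
  obtain ⟨m, ρ, hρ, hρχ⟩ := χ₀.2
  obtain ⟨n, -, hn⟩ := irr_one_pos χ₀.2
  have hnorm : ∑ g : G, ‖(χ₀ : G → ℂ) g‖ ^ 2 = (Nat.card G : ℝ) := by
    have h1 := classInner_isIrr_self χ₀.2
    rw [classInner_def, inv_mul_eq_one₀ natCard_ne_zero] at h1
    apply Complex.ofReal_injective
    push_cast
    rw [h1]
    exact Finset.sum_congr rfl fun g _ => (Complex.mul_conj' _).symm
  rw [← Finset.add_sum_erase _ _ (Finset.mem_univ (1 : G)), hsumE, hn, Complex.norm_natCast,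
    ← Finset.add_sum_erase _ _ hT₀] at hnorm
  have hcard : ((Nat.card G : ℝ) - 1) = (T M₀).card + ∑ τ ∈ 𝒯.erase (T M₀), (τ.card : ℝ) := by
    have h := hsumE fun _ => 1
    simp only [Finset.sum_const, nsmul_one] at h
    rw [← Finset.add_sum_erase _ _ hT₀, Finset.card_erase_of_mem (Finset.mem_univ _),
      Finset.card_univ, ← Nat.card_eq_fintype_card, Nat.cast_sub Nat.card_pos, Nat.cast_one] at h
    exact h
  have hrest : ∀ τ ∈ 𝒯.erase (T M₀), (τ.card : ℝ) ≤ ∑ g ∈ τ, ‖(χ₀ : G → ℂ) g‖ ^ 2 +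
      if τ ∈ Out then ((T M₀).card : ℝ) else 0 := by
    intro τ hτ
    have hτT := Finset.mem_of_mem_erase hτ
    have h0 : 0 ≤ ∑ g ∈ τ, ‖(χ₀ : G → ℂ) g‖ ^ 2 := Finset.sum_nonneg fun g _ => sq_nonneg _
    split_ifs with hO
    · have : (τ.card : ℝ) ≤ (T M₀).card := by exact_mod_cast hTle τ hτT
      linarith
    · rw [add_zero]
      obtain ⟨g, hg, rfl⟩ := Finset.mem_image.1 hτT
      have h := Characters.card_le_sum_norm_sq ρ (F g)
        (fun x hx k hk => Finset.mem_filter.2 ⟨Finset.mem_univ _,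
          inT_pow (Finset.mem_filter.1 hx).2 hk⟩)
        (fun x hx h => hO (Finset.mem_filter.2 ⟨hτ, x, hx, by rw [← hρχ]; exact h⟩))
      rwa [hρχ] at h
  have hrest' := Finset.sum_le_sum hrest
  rw [Finset.sum_add_distrib, Finset.sum_ite_mem,
    Finset.inter_eq_right.2 (Finset.filter_subset _ _), Finset.sum_const, nsmul_eq_mul] at hrest'
  -- the part on `M₀`
  have hbig : ((e : ℝ) + 1) * (T M₀).card ≤ 2 * ∑ g ∈ T M₀, ‖(χ₀ : G → ℂ) g‖ ^ 2 := by
    have hN0 : (0 : ℝ) < Nat.card (Subgroup.normalizer (M₀ : Set G)) := Nat.cast_pos.2 Nat.card_pos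
    have h1 := card_normalizer_mul_sum hM₀ (fun _ => 1) fun _ _ => rfl
    simp only [Finset.sum_const, nsmul_one, Finset.card_erase_of_mem (Finset.mem_univ _),
      Finset.card_univ] at h1
    rw [← Nat.card_eq_fintype_card, Nat.cast_sub Nat.card_pos, Nat.cast_one] at h1
    have h2 := card_normalizer_mul_sum hM₀ (fun g => ‖(χ₀ : G → ℂ) g‖ ^ 2)
      fun g x => by rw [irr_isClassFunction χ₀ g x]
    have h3 := mul_le_mul_of_nonneg_left (sum_bound hM₀ hodd φ hφ1 hφ χ₀ hχ₀ hpair (hN M₀ hM₀))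
      (Nat.cast_nonneg (Nat.card G) : (0 : ℝ) ≤ _)
    refine le_of_mul_le_mul_left ?_ hN0
    calc (Nat.card (Subgroup.normalizer (M₀ : Set G)) : ℝ) * (((e : ℝ) + 1) * (T M₀).card)
        = ((e : ℝ) + 1) * ((Nat.card G : ℝ) * ((Nat.card M₀ : ℝ) - 1)) := by rw [← h1]; ring
      _ = (Nat.card G : ℝ) * (((e : ℝ) + 1) * ((Nat.card M₀ : ℝ) - 1)) := by ring
      _ ≤ _ := h3
      _ = 2 * ((Nat.card G : ℝ) * ∑ y ∈ (Finset.univ : Finset M₀).erase 1,
            ‖(χ₀ : G → ℂ) y‖ ^ 2) := by ring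
      _ = _ := by rw [← h2]; ring
  have hO2 : (2 : ℝ) * Out.card + 1 ≤ e := by exact_mod_cast hbound
  have hO3 : (2 : ℝ) * Out.card * (T M₀).card ≤ ((e : ℝ) - 1) * (T M₀).card :=
    mul_le_mul_of_nonneg_right (by linarith) (Nat.cast_nonneg _)
  have hn1 : (n : ℝ) ^ 2 ≤ 1 := by linarith
  have hne1 : n ≠ 1 := by
    rintro rfl
    refine hlin χ₀ (fun h => hχ₀ ?_) (by simp [hn])
    rw [h]; ext g; simp
  have hn0 : n ≠ 0 := by
    rintro rfl
    exact irr_one_ne_zero χ₀.2 (by simp [hn])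
  have : 2 ≤ n := by omega
  have : (2 : ℝ) ≤ n := by exact_mod_cast this
  nlinarith

end Cfsg.Agent.CN
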