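import Mathlib
import Cfsg.Agent.Lib.CN.Basic
import Cfsg.Agent.Lib.PLocal.Cores
import Cfsg.Agent.Solvable.Fitting
import Cfsg.Agent.Lib.Coprime.FixedPointFree
import Cfsg.Agent.Lib.Hall.Product
import Cfsg.Agent.Lib.Cores.Nilpotent

/-!
# Solvable odd groups in which centralisers of `p`-elements are `p`-groups

If `O_p(K) ≠ 1` and `T` is a Sylow `p`-subgroup, then `J(T)` is normal in `K`, and either `T` is
normal or `T ≰ K'`.  Here `J(T)` is generated by the abelian subgroups of `T` of largest order.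
-/

set_option linter.style.haveILetI false
set_option linter.unusedSectionVars false

namespace Cfsg.Agent.CN

open scoped IsMulCommutative commutatorElement Pointwise

variable {G : Type*} [Group G]

/-! ## Abelian subgroups of largest order -/

/-- The abelian subgroups of largest order of `S`. -/
def maxAb (S : Subgroup G) : Set (Subgroup G) :=
  {A | A ≤ S ∧ IsMulCommutative A ∧
    ∀ B : Subgroup G, B ≤ S → IsMulCommutative B → Nat.card B ≤ Nat.card A}

/-- The subgroup generated by the abelian subgroups of largest order of `S`. -/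
def J (S : Subgroup G) : Subgroup G := sSup (maxAb S)

theorem J_le (S : Subgroup G) : J S ≤ S := sSup_le fun _ h => h.1

theorem exists_maxAb [Finite G] (S : Subgroup G) : ∃ A, A ∈ maxAb S := by
  classical
  haveI := Fintype.ofFinite (Subgroup G)
  obtain ⟨A, hA, hmax⟩ := Finset.exists_max_image
    ((Finset.univ : Finset (Subgroup G)).filter fun A => A ≤ S ∧ IsMulCommutative A)
    (fun A => Nat.card A) ⟨⊥, Finset.mem_filter.2 ⟨Finset.mem_univ _, bot_le, inferInstance⟩⟩
  obtain ⟨-, hA1, hA2⟩ := Finset.mem_filter.1 hA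
  exact ⟨A, hA1, hA2, fun B hB1 hB2 => hmax B (Finset.mem_filter.2 ⟨Finset.mem_univ _, hB1, hB2⟩)⟩

theorem maxAb_map {H : Type*} [Group H] {f : G →* H} (hf : Function.Injective f) (S : Subgroup G) :
    maxAb (S.map f) = (fun A => A.map f) '' maxAb S := by
  have hcard : ∀ A : Subgroup G, Nat.card (A.map f) = Nat.card A := fun A =>
    Subgroup.card_map_of_injective hf
  ext B
  constructor
  · rintro ⟨hB1, hB2, hB3⟩
    haveI := hB2
    have hBe : (B.comap f).map f = B := Subgroup.map_comap_eq_self (hB1.trans (Subgroup.map_le_range _ _))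
    refine ⟨B.comap f, ⟨?_, ?_, fun A hA1 hA2 => ?_⟩, hBe⟩
    · rw [← Subgroup.comap_map_eq_self_of_injective hf S]
      exact Subgroup.comap_mono hB1
    · exact .of_setLike_mul_comm fun a ha b hb => hf (by
        rw [map_mul, map_mul]
        exact setLike_mul_comm (s := B) ha hb)
    · haveI := hA2
      rw [← hcard A, ← hcard (B.comap f), hBe]
      exact hB3 _ (Subgroup.map_mono hA1) (Subgroup.map_isMulCommutative A f)
  · rintro ⟨A, ⟨hA1, hA2, hA3⟩, rfl⟩
    haveI := hA2
    refine ⟨Subgroup.map_mono hA1, Subgroup.map_isMulCommutative A f, fun B hB1 hB2 => ?_⟩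
    haveI := hB2
    have hBe : (B.comap f).map f = B := Subgroup.map_comap_eq_self (hB1.trans (Subgroup.map_le_range _ _))
    show Nat.card B ≤ Nat.card (A.map f)
    rw [← hBe, hcard, hcard]
    refine hA3 _ ?_ (.of_setLike_mul_comm fun a ha b hb => hf ?_)
    · rw [← Subgroup.comap_map_eq_self_of_injective hf S]
      exact Subgroup.comap_mono hB1
    · rw [map_mul, map_mul]
      exact setLike_mul_comm (s := B) ha hb

theorem map_J {H : Type*} [Group H] {f : G →* H} (hf : Function.Injective f) (S : Subgroup G) :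
    (J S).map f = J (S.map f) := by
  rw [J, J, maxAb_map hf, sSup_image, sSup_eq_iSup]
  simp only [Subgroup.map_iSup]

theorem normalizer_le_J (S : Subgroup G) :
    Subgroup.normalizer (S : Set G) ≤ Subgroup.normalizer (J S : Set G) := by
  intro g hg
  have hS : S.map (MulAut.conj g).toMonoidHom = S := by
    ext x
    constructor
    · rintro ⟨y, hy, rfl⟩
      exact (Subgroup.mem_normalizer_iff.1 hg y).1 hy
    · intro hx
      exact ⟨g⁻¹ * x * g, (Subgroup.mem_normalizer_iff''.1 hg x).1 hx, by simp [mul_assoc]⟩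
  have h := map_J (f := (MulAut.conj g).toMonoidHom) (MulAut.conj g).injective S
  rw [hS] at h
  rw [Subgroup.mem_normalizer_iff]
  intro x
  constructor
  · intro hx
    rw [← h]
    exact ⟨x, hx, rfl⟩
  · intro hx
    rw [← h] at hx
    obtain ⟨y, hy, he⟩ := hx
    simp at he
    exact he ▸ hy

theorem J_ne_bot [Finite G] {S : Subgroup G} (hS : S ≠ ⊥) : J S ≠ ⊥ := by
  obtain ⟨A, hA⟩ := exists_maxAb S
  obtain ⟨⟨y, hy⟩, hy1⟩ := Subgroup.ne_bot_iff_exists_ne_one.1 hS
  intro h
  have hle : A ≤ ⊥ := h ▸ le_sSup hA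
  have h2 := hA.2.2 _ (Subgroup.zpowers_le.2 hy) inferInstance
  rw [le_bot_iff.1 hle, Subgroup.card_bot, Nat.card_zpowers] at h2
  refine hy1 (Subtype.ext ?_)
  exact orderOf_eq_one_iff.1 (le_antisymm h2 (orderOf_pos y))

theorem J_eq_of_forall_le [Finite G] {U T : Subgroup G} (hUT : U ≤ T)
    (h : ∀ A ∈ maxAb T, A ≤ U) : J T = J U := by
  obtain ⟨A₀, hA₀⟩ := exists_maxAb T
  refine congrArg sSup (Set.ext fun A => ⟨fun hA => ?_, fun hA => ?_⟩)
  · exact ⟨h A hA, hA.2.1, fun B hB hBc => hA.2.2 B (hB.trans hUT) hBc⟩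
  · exact ⟨hA.1.trans hUT, hA.2.1, fun B hB hBc =>
      (hA₀.2.2 B hB hBc).trans (hA.2.2 A₀ (h A₀ hA₀) hA₀.2.1)⟩

/-! ## `PType` -/

theorem PType.subgroup {p : ℕ} (h : PType p G) (K : Subgroup G) : PType p K := by
  intro x hx hxp
  have hx' : (x : G) ≠ 1 := fun e => hx (Subtype.ext e)
  have hxp' : IsPGroup p (Subgroup.zpowers (x : G)) := by
    have := hxp.map K.subtype
    rwa [MonoidHom.map_zpowers] at this
  refine (h _ hx' hxp').of_injective
    ((K.subtype.comp (Subgroup.centralizer ({x} : Set K)).subtype).codRestrict _ fun y => ?_)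
    fun a b e => ?_
  · exact mem_cent_iff.2 (congrArg Subtype.val (mem_cent_iff.1 y.2))
  · exact Subtype.ext (Subtype.ext (congrArg Subtype.val e :))

theorem PType.isPGroup_of_commute {p : ℕ} (h : PType p G) {x y : G} (hx : x ≠ 1)
    (hxp : IsPGroup p (Subgroup.zpowers x)) (hxy : y * x = x * y) :
    IsPGroup p (Subgroup.zpowers y) :=
  (h x hx hxp).to_le (Subgroup.zpowers_le.2 (mem_cent_iff.2 hxy))

/-! ## A Vandermonde lemma -/

theorem vandermonde_eq_zero {W : Type*} [AddCommGroup W] {n : ℕ} (y : Fin n → AddMonoid.End W)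
    (hcomm : ∀ i j, y i * y j = y j * y i)
    (hinj : ∀ i j, i ≠ j → ∀ w, y i w = y j w → w = 0) (d : Fin n → W)
    (h : ∀ i, ∑ j : Fin n, (y i ^ (j : ℕ)) (d j) = 0) : d = 0 := by
  classical
  haveI : IsMulCommutative (Subring.closure (Set.range y)) :=
    Subring.isMulCommutative_closure (by rintro _ ⟨i, rfl⟩ _ ⟨j, rfl⟩; exact hcomm i j)
  let z : Fin n → Subring.closure (Set.range y) := fun i => ⟨y i, Subring.subset_closure ⟨i, rfl⟩⟩
  let M : Matrix (Fin n) (Fin n) (Subring.closure (Set.range y)) := Matrix.vandermonde z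
  funext k
  have hdet : ((M.det : Subring.closure (Set.range y)) : AddMonoid.End W) (d k) = 0 := by
    have h1 : ∀ j, ∑ i, (((Matrix.adjugate M) k i * M i j : Subring.closure (Set.range y)) :
        AddMonoid.End W) (d j) =
        if k = j then ((M.det : Subring.closure (Set.range y)) : AddMonoid.End W) (d k) else 0 := by
      intro j
      let ev : Subring.closure (Set.range y) →+ W :=
        { toFun := fun r => (r : AddMonoid.End W) (d j)
          map_zero' := rfl
          map_add' := fun _ _ => rfl }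
      have h2 := congrFun (congrFun (Matrix.adjugate_mul M) k) j
      rw [Matrix.mul_apply] at h2
      show ∑ i, ev (Matrix.adjugate M k i * M i j) = _
      rw [← map_sum, h2]
      by_cases hkj : k = j
      · subst hkj; simp [ev]; rfl
      · simp [hkj]
    have h3 : ∑ j, ∑ i, (((Matrix.adjugate M) k i * M i j : Subring.closure (Set.range y)) :
        AddMonoid.End W) (d j) = 0 := by
      rw [Finset.sum_comm]
      refine Finset.sum_eq_zero fun i _ => ?_
      have : ∀ j, (((Matrix.adjugate M) k i * M i j : Subring.closure (Set.range y)) :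
          AddMonoid.End W) (d j) = ((Matrix.adjugate M k i : Subring.closure (Set.range y)) :
          AddMonoid.End W) ((y i ^ (j : ℕ)) (d j)) := fun j => by
        simp [M, Matrix.vandermonde_apply, z]
      simp only [this]
      rw [← map_sum, h i, map_zero]
    rw [Finset.sum_congr rfl fun j _ => h1 j, Finset.sum_ite_eq, if_pos (Finset.mem_univ k)] at h3
    exact h3
  have hprod : ∀ (s : Finset (Fin n)) (f : Fin n → Subring.closure (Set.range y)),
      (∀ i ∈ s, ∀ w, (f i : AddMonoid.End W) w = 0 → w = 0) →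
      ∀ w, ((∏ i ∈ s, f i : Subring.closure (Set.range y)) : AddMonoid.End W) w = 0 → w = 0 := by
    intro s f hf
    refine Finset.prod_induction f (fun r : Subring.closure (Set.range y) =>
      ∀ w, (r : AddMonoid.End W) w = 0 → w = 0) ?_ ?_ hf
    · intro a b ha hb w hw
      simp at hw
      exact hb w (ha _ hw)
    · intro w hw
      simpa using hw
  rw [Matrix.det_vandermonde] at hdet
  refine hprod _ _ (fun i _ => hprod _ _ fun j hj w hw => ?_) _ hdet
  refine hinj j i (ne_of_gt (Finset.mem_Ioi.1 hj)) w ?_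
  simp [z] at hw
  exact sub_eq_zero.1 (show y j w - y i w = 0 from hw)

/-! ## The structure lemma -/

variable {K : Type*} [Group K] [Finite K] [Group.IsSolvable K] {p : ℕ} [hp : Fact p.Prime]

/-- The structure of solvable odd groups with `O_p ≠ 1` and `p`-group centralisers of `p`-elements. -/
theorem local_structure (hodd : Odd (Nat.card K)) (hpt : PType p K) (hU : Cfsg.pCore p K ≠ ⊥)
    (T : Sylow p K) :
    (J (T : Subgroup K)).Normal ∧ ((T : Subgroup K).Normal ∨ ¬ (T : Subgroup K) ≤ commutator K) := by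
  classical
  set U := Cfsg.pCore p K with hUdef
  have hUp : IsPGroup p U := PLocal.Cores.isPGroup_pCore
  haveI hUn : U.Normal := Cfsg.pCore_normal p K
  have hUT : U ≤ T := PLocal.Cores.pCore_le_sylow T
  set q := QuotientGroup.mk' U
  have hq : Function.Surjective q := QuotientGroup.mk'_surjective U
  set F := Cfsg.fittingSubgroup (K ⧸ U) with hF
  haveI hFn : F.Normal := inferInstance
  have hFcop : (Nat.card F).Coprime p := by
    have h1 : F ≤ Cfsg.pPrimeCore p (K ⧸ U) := by
      rw [hF, Components.Fitting.fitting_eq_coreJoin]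
      exact (Components.Fitting.coreJoin_le_sup p).trans
        (sup_le ((PLocal.Cores.pCore_quotient_pCore (G := K) (p := p)).le.trans bot_le) le_rfl)
    exact (PLocal.Cores.coprime_card_pPrimeCore).coprime_dvd_left (Subgroup.card_dvd_of_le h1)
  have hCF : Subgroup.centralizer (F : Set (K ⧸ U)) ≤ F := Solvable.Fitting.centralizer_fitting_le
  set H₀ := F.comap q
  have hUH : U ≤ H₀ := fun u hu => by
    rw [Subgroup.mem_comap, QuotientGroup.mk'_apply, (QuotientGroup.eq_one_iff u).2 hu]
    exact F.one_mem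
  have hone : ∀ y : K, y ∈ H₀ → IsPGroup p (Subgroup.zpowers y) → y ∈ U := by
    intro y hy hyp
    rw [← QuotientGroup.eq_one_iff]
    have h1 := hyp.map q
    rw [MonoidHom.map_zpowers] at h1
    obtain ⟨k, hk⟩ := IsPGroup.iff_card.1 h1
    rw [Nat.card_zpowers] at hk
    have h2 : orderOf (q y) ∣ Nat.card F := Subgroup.orderOf_dvd_natCard F hy
    exact orderOf_eq_one_iff.1 (Nat.eq_one_of_dvd_coprimes (hFcop.pow_right k) h2 (hk ▸ dvd_rfl))
  have hfix : ∀ y : K, y ∈ H₀ → ∀ v ∈ U, v ≠ 1 → y * v = v * y → y ∈ U := fun y hy v hv hv1 hc =>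
    hone y hy (hpt.isPGroup_of_commute hv1 (hUp.to_le (Subgroup.zpowers_le.2 hv)) hc)
  -- `F` is cyclic
  haveI hFnil : Group.IsNilpotent F := Cores.fittingSubgroup_isNilpotent
  have hZ : IsZGroup F := by
    refine ⟨fun r hr S => ?_⟩
    haveI := Fact.mk hr
    have hSbot : r = p → (S : Subgroup F) = ⊥ := by
      intro e
      obtain ⟨k, hk⟩ := IsPGroup.iff_card.1 S.isPGroup'
      rw [← Subgroup.card_eq_one]
      subst e
      exact Nat.eq_one_of_dvd_coprimes (hFcop.pow_right k)
        (Subgroup.card_subgroup_dvd_card (S : Subgroup F)) (hk ▸ dvd_rfl)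
    by_cases hSne : (S : Subgroup F) = ⊥
    · haveI : Subsingleton S := by
        show Subsingleton (S : Subgroup F)
        rw [hSne]; infer_instance
      infer_instance
    haveI : IsCyclic S := by
      let π : H₀ →* F := q.subgroupComap F
      have hπ : Function.Surjective π := q.subgroupComap_surjective_of_surjective F hq
      obtain ⟨R₀⟩ : Nonempty (Sylow r H₀) := inferInstance
      set R := (R₀ : Subgroup H₀).map H₀.subtype
      have hRle : R ≤ H₀ := Subgroup.map_subtype_le _
      have hcyc : IsCyclic (R₀ : Subgroup H₀) := by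
        rcases eq_or_ne r p with rfl | hrp
        · -- no `p`-elements outside `U`
          exact absurd hSne (not_not.2 (hSbot rfl))
        · have hRr : IsPGroup r R := R₀.isPGroup'.map _
          have hRU : R ≤ Subgroup.normalizer (U : Set K) := by
            rw [Subgroup.normalizer_eq_top_iff.2 hUn]; exact le_top
          have hfpf : ∀ a ∈ R, a ≠ 1 → U ⊓ Subgroup.centralizer {a} = ⊥ := by
            intro a ha ha1
            rw [Subgroup.eq_bot_iff_forall]
            intro v hv
            by_contra hv1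
            obtain ⟨hvU, hvc⟩ := Subgroup.mem_inf.1 hv
            have haU := hfix a (hRle ha) v hvU hv1 (mem_cent_iff.1 hvc).symm
            exact ha1 (orderOf_eq_one_iff.1 (Nat.eq_one_of_dvd_coprimes
              (IsPGroup.coprime_card_of_ne r p hrp R U hRr hUp)
              (Subgroup.orderOf_dvd_natCard R ha) (Subgroup.orderOf_dvd_natCard U haU)))
          rcases Coprime.fpf_isCyclic_or_quaternion (p := r) hRr hRU hfpf hU with
            h | ⟨hr2, n, ⟨e⟩⟩
          · exact (Subgroup.equivMapOfInjective _ H₀.subtype H₀.subtype_injective).isCyclic.2 h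
          · exfalso
            have h1 : Nat.card R ∣ Nat.card K := Subgroup.card_subgroup_dvd_card R
            rw [Nat.card_congr e.toEquiv, Nat.card_eq_fintype_card, QuaternionGroup.card] at h1
            exact (Nat.not_even_iff_odd.2 hodd) (even_iff_two_dvd.2 ((dvd_mul_right 2 _).trans
              ((show 2 * (2 * 2 ^ n) = 4 * 2 ^ n by ring) ▸ h1)))
      haveI := hcyc
      haveI : IsCyclic (R₀.mapSurjective hπ : Subgroup F) :=
        isCyclic_of_surjective (π.subgroupMap (R₀ : Subgroup H₀))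
          (π.subgroupMap_surjective _)
      obtain ⟨g, hg⟩ := MulAction.exists_smul_eq F (R₀.mapSurjective hπ) S
      exact (Sylow.equiv (R₀.mapSurjective hπ) S).isCyclic.1 inferInstance
    infer_instance
  haveI : IsCyclic F := inferInstance
  have hcomm : commutator (K ⧸ U) ≤ F := by
    refine le_trans ?_ hCF
    rw [commutator_def, Subgroup.commutator_le]
    intro a _ b _
    let α : K ⧸ U →* MulAut F := MulAut.conjNormal
    have hab : α ⁅a, b⁆ = 1 := by
      rw [map_commutatorElement, commutatorElement_eq_one_iff_mul_comm]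
      exact (IsCyclic.mulAutMulEquiv F).injective (by rw [map_mul, map_mul, mul_comm])
    refine Subgroup.mem_centralizer_iff.2 fun f hf => ?_
    have h2 : (⁅a, b⁆ : K ⧸ U) * f * ⁅a, b⁆⁻¹ = f :=
      (MulAut.conjNormal_apply _ (⟨f, hf⟩ : F)).symm.trans
        (congrArg (fun e : MulAut F => ((e ⟨f, hf⟩ : F) : K ⧸ U)) hab)
    exact (mul_inv_eq_iff_eq_mul.1 h2).symm
  refine ⟨?_, ?_⟩
  swap
  · by_cases hT : (T : Subgroup K) ≤ commutator K
    · left
      have hTU : (T : Subgroup K) ≤ U := fun t ht => by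
        refine hone t (hcomm ?_) (T.isPGroup'.to_le (Subgroup.zpowers_le.2 ht))
        have := Subgroup.mem_map_of_mem q (hT ht)
        rwa [commutator_def, Subgroup.map_commutator, Subgroup.map_top_of_surjective q hq,
          ← commutator_def] at this
      rw [le_antisymm hTU hUT]
      exact hUn
    · exact Or.inr hT
  -- `J T = J U`
  suffices hA : ∀ A ∈ maxAb (T : Subgroup K), A ≤ U by
    rw [J_eq_of_forall_le hUT hA]
    refine Subgroup.normalizer_eq_top_iff.1 (top_le_iff.1 ?_)
    refine le_trans ?_ (normalizer_le_J U)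
    rw [Subgroup.normalizer_eq_top_iff.2 hUn]
  rintro A ⟨hAT, hAc, hAmax⟩
  by_contra hAU
  haveI := hAc
  set V := U ⊓ Subgroup.centralizer (U : Set K) with hV
  haveI hVn : V.Normal := inferInstance
  have hVU : V ≤ U := inf_le_left
  have hVc : ∀ v ∈ V, ∀ u ∈ U, u * v = v * u := fun v hv u hu =>
    Subgroup.mem_centralizer_iff.1 (Subgroup.mem_inf.1 hv).2 u hu
  haveI : IsMulCommutative V := .of_setLike_mul_comm fun a ha b hb => hVc b hb a (hVU ha)
  have hVne : V ≠ ⊥ := by
    haveI : Nontrivial U := (Subgroup.nontrivial_iff_ne_bot _).2 hU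
    haveI := hUp.center_nontrivial
    obtain ⟨⟨⟨v, hv⟩, hvc⟩, hv1⟩ := exists_ne (1 : Subgroup.center U)
    intro h
    have hvV : v ∈ V := Subgroup.mem_inf.2 ⟨hv, Subgroup.mem_centralizer_iff.2 fun u hu =>
      congrArg Subtype.val (Subgroup.mem_center_iff.1 hvc ⟨u, hu⟩)⟩
    rw [h, Subgroup.mem_bot] at hvV
    exact hv1 (Subtype.ext (Subtype.ext hvV))
  set F0 := V ⊓ Subgroup.centralizer (A : Set K) with hF0
  have hF0ne : F0 ≠ ⊥ := by
    haveI : Group.IsNilpotent T := T.isPGroup'.isNilpotent
    haveI : (V.subgroupOf (T : Subgroup K)).Normal := hVn.subgroupOf _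
    have hne : V.subgroupOf (T : Subgroup K) ≠ ⊥ := by
      intro h
      rw [Subgroup.subgroupOf_eq_bot] at h
      exact hVne (h.eq_bot_of_le (hVU.trans hUT))
    obtain ⟨⟨⟨v, hvT⟩, hv⟩, hv1⟩ :=
      Subgroup.ne_bot_iff_exists_ne_one.1 (Cores.inf_center_ne_bot hne)
    intro h
    obtain ⟨hvV, hvc⟩ := Subgroup.mem_inf.1 hv
    have : v ∈ F0 := Subgroup.mem_inf.2 ⟨hvV, Subgroup.mem_centralizer_iff.2 fun a ha =>
      congrArg Subtype.val (Subgroup.mem_center_iff.1 hvc ⟨a, hAT ha⟩)⟩
    rw [h, Subgroup.mem_bot] at this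
    exact hv1 (Subtype.ext (Subtype.ext this))
  let φ : K →* AddMonoid.End (Additive V) :=
    { toFun := fun g =>
        { toFun := fun v => Additive.ofMul (MulAut.conjNormal (H := V) g (Additive.toMul v))
          map_zero' := by simp
          map_add' := fun a b => by simp }
      map_one' := AddMonoidHom.ext fun v => by simp; rfl
      map_mul' := fun g g' => AddMonoidHom.ext fun v => by simp; rfl }
  have hφ : ∀ g : K, ∀ v : Additive V, ((Additive.toMul (φ g v) : V) : K) =
      g * ((Additive.toMul v : V) : K) * g⁻¹ := fun g v => MulAut.conjNormal_apply g (Additive.toMul v)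
  have hφU : ∀ u ∈ U, φ u = 1 := by
    intro u hu
    refine AddMonoidHom.ext fun v => Additive.toMul.injective (Subtype.ext ?_)
    exact (hφ u v).trans (by rw [hVc _ (Additive.toMul v).2 u hu, mul_inv_cancel_right]; rfl)
  obtain ⟨f₀, hf₀⟩ := IsCyclic.exists_generator (α := F)
  obtain ⟨h, hh⟩ := hq (f₀ : K ⧸ U)
  have hhH : h ∈ H₀ := by rw [Subgroup.mem_comap, hh]; exact f₀.2
  set B := A ⊓ U with hB
  set m := Nat.card (A ⧸ B.subgroupOf A) with hm
  let ei : Fin m ≃ A ⧸ B.subgroupOf A := (Finite.equivFin _).symm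
  let aa : Fin m → K := fun i => ((ei i).out : K)
  have hyH : ∀ i, aa i * h * (aa i)⁻¹ ∈ H₀ := fun i =>
    (Subgroup.Normal.comap hFn q).conj_mem h hhH (aa i)
  have hcommute : ∀ y ∈ H₀, ∀ y' ∈ H₀, φ y * φ y' = φ y' * φ y := by
    intro y hy y' hy'
    have h1 : q (y * y') = q (y' * y) := by
      rw [map_mul, map_mul]
      exact congrArg Subtype.val (mul_comm' (⟨q y, hy⟩ : F) ⟨q y', hy'⟩)
    have h2 : (y' * y)⁻¹ * (y * y') ∈ U := QuotientGroup.eq.1 h1.symm
    rw [← map_mul, ← map_mul, show y * y' = (y' * y) * ((y' * y)⁻¹ * (y * y')) by group, map_mul,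
      hφU _ h2, mul_one]
  have hinj : ∀ i j, i ≠ j → ∀ w, φ (aa i * h * (aa i)⁻¹) w = φ (aa j * h * (aa j)⁻¹) w → w = 0 := by
    intro i j hij w hw
    by_contra hw0
    apply hij
    set yi := aa i * h * (aa i)⁻¹
    set yj := aa j * h * (aa j)⁻¹
    set v := ((Additive.toMul w : V) : K) with hv
    have h1 : yi * v * yi⁻¹ = yj * v * yj⁻¹ := by
      rw [hv, ← hφ, ← hφ, hw]
    have h2 : (yj⁻¹ * yi) * v = v * (yj⁻¹ * yi) := by
      calc yj⁻¹ * yi * v = yj⁻¹ * (yi * v * yi⁻¹) * yi := by group
        _ = v * (yj⁻¹ * yi) := by rw [h1]; group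
    have hv1 : v ≠ 1 := fun e => hw0 (Additive.toMul.injective (Subtype.ext e))
    have hmem : yj⁻¹ * yi ∈ U := hfix _ (H₀.mul_mem (H₀.inv_mem (hyH j)) (hyH i)) v
      (hVU (Additive.toMul w).2) hv1 h2
    have h3 : q yj = q yi := QuotientGroup.eq.2 hmem
    set c := (aa j)⁻¹ * aa i with hc
    have h4 : q c * (f₀ : K ⧸ U) = f₀ * q c := by
      rw [← hh, hc]
      simp only [map_mul, map_inv]
      simp only [yi, yj, map_mul, map_inv] at h3
      calc (q (aa j))⁻¹ * q (aa i) * q h = (q (aa j))⁻¹ * (q (aa i) * q h * (q (aa i))⁻¹) * q (aa i) := by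
            group
        _ = (q (aa j))⁻¹ * (q (aa j) * q h * (q (aa j))⁻¹) * q (aa i) := by rw [h3]
        _ = q h * ((q (aa j))⁻¹ * q (aa i)) := by group
    have h5 : q c ∈ F := by
      refine hCF (Subgroup.mem_centralizer_iff.2 fun f hf => ?_)
      obtain ⟨k, hk⟩ := hf₀ ⟨f, hf⟩
      have : f = (f₀ : K ⧸ U) ^ k := by rw [← Subgroup.coe_zpow]; exact congrArg Subtype.val hk.symm
      rw [this]
      exact (Commute.zpow_right h4 k).eq.symm
    have hcA : c ∈ A := A.mul_mem (A.inv_mem (ei j).out.2) (ei i).out.2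
    have hcU : c ∈ U := hone c h5 (T.isPGroup'.to_le (Subgroup.zpowers_le.2 (hAT hcA)))
    apply ei.injective
    rw [← Quotient.out_eq (ei i), ← Quotient.out_eq (ei j)]
    refine (QuotientGroup.eq.2 ?_).symm
    rw [Subgroup.mem_subgroupOf]
    exact Subgroup.mem_inf.2 ⟨hcA, hcU⟩
  -- the injection
  let Ψ : (Fin m → F0) → Additive V := fun f =>
    ∑ i : Fin m, (φ h ^ (i : ℕ)) (Additive.ofMul (⟨(f i : K), (Subgroup.mem_inf.1 (f i).2).1⟩ : V))
  have hΨ : Function.Injective Ψ := by
    intro f g hfg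
    set d : Fin m → Additive V := fun i =>
      Additive.ofMul (⟨(f i : K), (Subgroup.mem_inf.1 (f i).2).1⟩ : V) -
      Additive.ofMul (⟨(g i : K), (Subgroup.mem_inf.1 (g i).2).1⟩ : V) with hd
    have hdfix : ∀ i, ∀ a ∈ A, φ a (d i) = d i := by
      intro i a ha
      have hfixF : ∀ x : F0, φ a (Additive.ofMul (⟨(x : K), (Subgroup.mem_inf.1 x.2).1⟩ : V)) =
          Additive.ofMul (⟨(x : K), (Subgroup.mem_inf.1 x.2).1⟩ : V) := by
        intro x
        refine Additive.toMul.injective (Subtype.ext ?_)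
        rw [hφ]
        simp [Subgroup.mem_centralizer_iff.1 (Subgroup.mem_inf.1 x.2).2 a ha]
      simp only [d, map_sub, hfixF]
    have hd0 : ∑ i : Fin m, (φ h ^ (i : ℕ)) (d i) = 0 := by
      simp only [d, map_sub, Finset.sum_sub_distrib]
      exact sub_eq_zero.2 hfg
    have := vandermonde_eq_zero (fun i => φ (aa i * h * (aa i)⁻¹))
      (fun i j => hcommute _ (hyH i) _ (hyH j)) hinj d fun i => by
        have h1 := congrArg (φ (aa i)) hd0
        rw [map_zero, map_sum] at h1
        rw [← h1]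
        refine Finset.sum_congr rfl fun j _ => ?_
        conv_lhs => rw [← hdfix j (aa i) (ei i).out.2]
        have key : ∀ (x x' : K) (w : Additive V), φ x (φ x' w) = φ (x * x') w := fun x x' w => by
          rw [map_mul]; rfl
        rw [← map_pow, ← map_pow, key, key, conj_pow]
        simp [mul_assoc]
    funext i
    have h2 := congrFun this i
    simp only [d, Pi.zero_apply, sub_eq_zero] at h2
    exact Subtype.ext (congrArg (fun x : V => (x : K)) (Additive.ofMul.injective h2))
  have hcount := Nat.card_le_card_of_injective Ψ hΨ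
  rw [Nat.card_fun, Nat.card_fin, Nat.card_congr (Additive.toMul (α := V))] at hcount
  -- the competitor
  haveI hBVc : IsMulCommutative (B ⊔ V : Subgroup K) := by
    rw [Subgroup.sup_eq_closure_mul]
    refine Subgroup.isMulCommutative_closure ?_
    rintro _ ⟨b, hb, v, hv, rfl⟩ _ ⟨b', hb', v', hv', rfl⟩
    have hbU := (Subgroup.mem_inf.1 hb).2
    have hbU' := (Subgroup.mem_inf.1 hb').2
    have c1 : b * b' = b' * b := setLike_mul_comm (s := A) (Subgroup.mem_inf.1 hb).1 (Subgroup.mem_inf.1 hb').1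
    have c2 : v * b' = b' * v := (hVc v hv b' hbU').symm
    have c3 : b * v' = v' * b := hVc v' hv' b hbU
    have c4 : v * v' = v' * v := hVc v' hv' v (hVU hv)
    show b * v * (b' * v') = b' * v' * (b * v)
    calc b * v * (b' * v') = b * (v * b') * v' := by group
      _ = b * b' * (v * v') := by rw [c2]; group
      _ = b' * b * (v' * v) := by rw [c1, c4]
      _ = b' * (b * v') * v := by group
      _ = b' * v' * (b * v) := by rw [c3]; group
  have hBVle := hAmax (B ⊔ V) (sup_le (inf_le_left.trans hAT) (hVU.trans hUT)) hBVc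
  have hBVcard : Nat.card B * Nat.card V ≤ Nat.card (B ⊔ V : Subgroup K) * Nat.card F0 := by
    rw [← Hall.card_mul_inf]
    refine Nat.mul_le_mul ?_ ?_
    · exact le_of_eq (Nat.card_congr (Equiv.setCongr
        (show ((B : Set K) * (V : Set K)) = ((B ⊔ V : Subgroup K) : Set K) from
          (Subgroup.mul_normal B V).symm)))
    · refine Subgroup.card_le_of_le fun x hx => ?_
      obtain ⟨hxB, hxV⟩ := Subgroup.mem_inf.1 hx
      exact Subgroup.mem_inf.2 ⟨hxV, Subgroup.mem_centralizer_iff.2 fun a ha =>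
        setLike_mul_comm (s := A) ha (Subgroup.mem_inf.1 hxB).1⟩
  have hAcard : Nat.card A = Nat.card B * m := by
    rw [hm, ← Subgroup.index_eq_card, ← Nat.card_congr (Subgroup.subgroupOfEquivOfLe
      (inf_le_left : B ≤ A)).toEquiv, Subgroup.card_mul_index]
  have hm2 : 2 ≤ m := by
    have h1 : m ≠ 1 := by
      intro h1
      refine hAU fun a ha => ?_
      have h2 : (B.subgroupOf A).index = 1 := by rw [Subgroup.index_eq_card]; exact h1
      have h3 : (⟨a, ha⟩ : A) ∈ B.subgroupOf A := by
        rw [Subgroup.index_eq_one.1 h2]; exact Subgroup.mem_top _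
      exact (Subgroup.mem_inf.1 h3).2
    have : 0 < m := Nat.card_pos
    omega
  have hf3 : 3 ≤ Nat.card F0 := by
    obtain ⟨k, hk⟩ := IsPGroup.iff_card.1 (hUp.to_le ((inf_le_left : F0 ≤ V).trans hVU))
    have hne : Nat.card F0 ≠ 1 := fun h => hF0ne (Subgroup.card_eq_one.1 h)
    have hodd' : Odd (Nat.card F0) := by
      obtain ⟨c, hc⟩ := Subgroup.card_subgroup_dvd_card F0
      exact (Nat.odd_mul.1 (hc ▸ hodd)).1
    obtain ⟨j, hj⟩ := hodd'
    have : 0 < Nat.card F0 := Nat.card_pos
    omega
  have h6 : Nat.card F0 ^ m ≤ m * Nat.card F0 := by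
    refine Nat.le_of_mul_le_mul_left ?_ (Nat.card_pos (α := B))
    calc Nat.card B * Nat.card F0 ^ m ≤ Nat.card B * Nat.card V := Nat.mul_le_mul_left _ hcount
      _ ≤ Nat.card (B ⊔ V : Subgroup K) * Nat.card F0 := hBVcard
      _ ≤ Nat.card A * Nat.card F0 := Nat.mul_le_mul_right _ hBVle
      _ = Nat.card B * (m * Nat.card F0) := by rw [hAcard, mul_assoc]
  obtain ⟨k, hk⟩ : ∃ k, m = k + 1 := ⟨m - 1, by omega⟩
  rw [hk, pow_succ] at h6
  have h7 : Nat.card F0 ^ k ≤ k + 1 := Nat.le_of_mul_le_mul_right h6 Nat.card_pos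
  have h8 : k + 2 ≤ 3 ^ k := by
    have : ∀ j, 1 ≤ j → j + 2 ≤ 3 ^ j := by
      intro j hj
      induction j with
      | zero => omega
      | succ j ih =>
        rcases Nat.eq_zero_or_pos j with rfl | hj'
        · norm_num
        · rw [pow_succ]; have := ih hj'; omega
    exact this k (by omega)
  have := Nat.pow_le_pow_left hf3 k
  omega

end Cfsg.Agent.CN
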