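import Mathlib
import Cfsg.Agent.Lib.CN.Structure
import Cfsg.Agent.Lib.SmallSimple.Basic

/-!
# A minimal simple group of odd order with `p`-group centralisers of `p`-elements has TI Sylow
`p`-subgroups
-/

set_option linter.style.haveILetI false
set_option linter.unusedSectionVars false

namespace Cfsg.Agent.CN

variable {G : Type*} [Group G]


theorem mem_cj {g x : G} {H : Subgroup G} :
    x ∈ H.map (MulAut.conj g).toMonoidHom ↔ g⁻¹ * x * g ∈ H := by
  constructor
  · rintro ⟨y, hy, rfl⟩; simpa [mul_assoc] using hy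
  · intro h; exact ⟨_, h, by simp [mul_assoc]⟩

theorem cj_cj (a b : G) (H : Subgroup G) :
    (H.map (MulAut.conj b).toMonoidHom).map (MulAut.conj a).toMonoidHom =
      H.map (MulAut.conj (a * b)).toMonoidHom := by
  ext x; simp only [mem_cj]; simp [mul_assoc]

theorem cj_one (H : Subgroup G) : H.map (MulAut.conj (1 : G)).toMonoidHom = H := by
  ext x; simp

theorem card_cj (g : G) (H : Subgroup G) :
    Nat.card (H.map (MulAut.conj g).toMonoidHom) = Nat.card H :=
  Subgroup.card_map_of_injective (MulAut.conj g).injective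

theorem cj_le_cj {g : G} {H K : Subgroup G} (h : H ≤ K) :
    H.map (MulAut.conj g).toMonoidHom ≤ K.map (MulAut.conj g).toMonoidHom :=
  Subgroup.map_mono h

theorem card_lt_of_lt [Finite G] {A B : Subgroup G} (h : A < B) : Nat.card A < Nat.card B :=
  lt_of_not_ge fun hle => h.ne (Subgroup.eq_of_le_of_card_ge h.le hle)

/-- `T` is a maximal `p`-subgroup of `L`. -/
structure IsMaxP (p : ℕ) (L T : Subgroup G) : Prop where
  le : T ≤ L
  isPGroup : IsPGroup p T
  max : ∀ Q : Subgroup G, IsPGroup p Q → T ≤ Q → Q ≤ L → Q = T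

variable [Finite G] {p : ℕ} [hp : Fact p.Prime]

theorem exists_isMaxP {L Q : Subgroup G} (hQ : IsPGroup p Q) (hQL : Q ≤ L) :
    ∃ S : Sylow p L, Q ≤ (S : Subgroup L).map L.subtype ∧
      IsMaxP p L ((S : Subgroup L).map L.subtype) := by
  obtain ⟨S, hS⟩ := (hQ.comap_of_injective L.subtype L.subtype_injective).exists_le_sylow
  refine ⟨S, ?_, Subgroup.map_subtype_le _, S.isPGroup'.map _, fun R hR h1 h2 => ?_⟩
  · rw [← Subgroup.map_comap_eq_self (f := L.subtype) (H := Q) (by simpa using hQL)]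
    exact Subgroup.map_mono hS
  · have hle : (S : Subgroup L) ≤ R.comap L.subtype := fun x hx =>
      h1 (Subgroup.mem_map_of_mem L.subtype hx)
    rw [← S.is_maximal' (hR.comap_of_injective L.subtype L.subtype_injective) hle,
      Subgroup.map_comap_eq_self (by simpa using h2)]

theorem IsMaxP.exists_sylow {L T : Subgroup G} (h : IsMaxP p L T) :
    ∃ S : Sylow p L, (S : Subgroup L).map L.subtype = T := by
  obtain ⟨S, h1, h2⟩ := exists_isMaxP h.isPGroup h.le
  exact ⟨S, h.max _ h2.isPGroup h1 h2.le⟩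

theorem IsMaxP.cj {L T : Subgroup G} (h : IsMaxP p L T) (g : G) :
    IsMaxP p (L.map (MulAut.conj g).toMonoidHom) (T.map (MulAut.conj g).toMonoidHom) := by
  refine ⟨cj_le_cj h.le, h.isPGroup.map _, fun Q hQ h1 h2 => ?_⟩
  have h1' := cj_le_cj (g := g⁻¹) h1
  have h2' := cj_le_cj (g := g⁻¹) h2
  rw [cj_cj, inv_mul_cancel, cj_one] at h1' h2'
  rw [← h.max _ (hQ.map _) h1' h2', cj_cj, mul_inv_cancel, cj_one]

theorem le_inf_normalizer {P T : Subgroup G} (hP : IsPGroup p P) (hT : T < P) :
    T < P ⊓ Subgroup.normalizer (T : Set G) := by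
  haveI : Group.IsNilpotent P := hP.isNilpotent
  have hlt : T.subgroupOf P < ⊤ := lt_top_iff_ne_top.2 fun h =>
    hT.not_ge (Subgroup.subgroupOf_eq_top.1 h)
  obtain ⟨y, hy, hyT⟩ := SetLike.exists_of_lt (Group.normalizerCondition_of_isNilpotent _ hlt)
  refine lt_of_le_of_ne (le_inf hT.le Subgroup.le_normalizer) fun h => hyT ?_
  rw [Subgroup.mem_subgroupOf, h, Subgroup.mem_inf]
  refine ⟨y.2, Subgroup.mem_normalizer_iff.2 fun x => ?_⟩
  constructor
  · intro hx
    exact (Subgroup.mem_normalizer_iff.1 hy ⟨x, hT.le hx⟩).1 (Subgroup.mem_subgroupOf.2 hx)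
  · intro hx
    have hxP : x ∈ P := by
      have := P.mul_mem (P.mul_mem (P.inv_mem y.2) (hT.le hx)) y.2
      simpa [mul_assoc] using this
    exact (Subgroup.mem_normalizer_iff.1 hy ⟨x, hxP⟩).2 (Subgroup.mem_subgroupOf.2 hx)

theorem not_pGroup [IsSimpleGroup G] (hG : ¬ IsMulCommutative G) {P : Subgroup G}
    (hP : IsPGroup p P) : P ≠ ⊤ := by
  rintro rfl
  haveI : Group.IsNilpotent G :=
    (hP.of_equiv Subgroup.topEquiv).isNilpotent
  refine absurd (SmallSimple.Basic.center_eq_bot hG) ?_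
  exact Group.IsNilpotent.center_ne_bot G

theorem normalizer_ne_top [IsSimpleGroup G] (hG : ¬ IsMulCommutative G) {D : Subgroup G}
    (hD : IsPGroup p D) (hne : D ≠ ⊥) : Subgroup.normalizer (D : Set G) ≠ ⊤ := by
  intro h
  rcases (Subgroup.normalizer_eq_top_iff.1 h).eq_bot_or_eq_top with h1 | h1
  · exact hne h1
  · exact not_pGroup hG hD h1

variable [IsSimpleGroup G] (hG : ¬ IsMulCommutative G) (hodd : Odd (Nat.card G))
  (hsolv : ∀ H : Subgroup G, H ≠ ⊤ → Group.IsSolvable H) (hpt : PType p G)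
include hG hodd hsolv hpt

/-- In a local subgroup the `J` of a Sylow subgroup is normal. -/
theorem le_normalizer_J {L T D : Subgroup G} (hD : IsPGroup p D) (hne : D ≠ ⊥) (hDL : D ≤ L)
    (hLD : L ≤ Subgroup.normalizer (D : Set G)) (hT : IsMaxP p L T) :
    L ≤ Subgroup.normalizer (J T : Set G) ∧
      (L ≤ Subgroup.normalizer (T : Set G) ∨ ¬ T ≤ (commutator L).map L.subtype) := by
  obtain ⟨S, rfl⟩ := hT.exists_sylow
  haveI := hsolv L fun h => normalizer_ne_top hG hD hne (top_le_iff.1 (h ▸ hLD))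
  have hodd' : Odd (Nat.card L) := by
    obtain ⟨c, hc⟩ := Subgroup.card_subgroup_dvd_card L
    exact (Nat.odd_mul.1 (hc ▸ hodd)).1
  haveI : (D.subgroupOf L).Normal := ⟨fun x hx g => by
    rw [Subgroup.mem_subgroupOf] at hx ⊢
    simpa using (Subgroup.mem_normalizer_iff.1 (hLD g.2) _).1 hx⟩
  have hU : Cfsg.pCore p L ≠ ⊥ := by
    intro h
    have h1 := PLocal.Cores.le_pCore (p := p) (N := D.subgroupOf L)
      (hD.comap_of_injective L.subtype L.subtype_injective)
    rw [h, le_bot_iff, Subgroup.subgroupOf_eq_bot] at h1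
    exact hne (h1.eq_bot_of_le hDL)
  obtain ⟨h1, h2⟩ := local_structure hodd' (hpt.subgroup L) hU S
  have hnorm : ∀ X : Subgroup L, X.Normal → L ≤ Subgroup.normalizer (X.map L.subtype : Set G) := by
    intro X hX g hg
    rw [Subgroup.mem_normalizer_iff]
    intro x
    constructor
    · rintro ⟨y, hy, rfl⟩
      exact ⟨_, hX.conj_mem y hy ⟨g, hg⟩, by simp⟩
    · rintro ⟨y, hy, he⟩
      refine ⟨_, hX.conj_mem y hy ⟨g, hg⟩⁻¹, ?_⟩
      simp only [Subgroup.coe_subtype] at he
      simp [he, mul_assoc]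
  refine ⟨?_, ?_⟩
  · rw [← map_J L.subtype_injective]
    exact hnorm _ h1
  · rcases h2 with h2 | h2
    · exact Or.inl (hnorm _ h2)
    · exact Or.inr fun h => h2 fun x hx => by
        obtain ⟨y, hy, he⟩ := h (Subgroup.mem_map_of_mem L.subtype hx)
        rwa [L.subtype_injective he] at hy

/-- `N(J(P))` contains every `g` with `P ∩ P^g ≠ 1`. -/
theorem mem_of_inf_ne_bot (P : Sylow p G) (_hP : (P : Subgroup G) ≠ ⊥) :
    ∀ g : G, (P : Subgroup G) ⊓ (P : Subgroup G).map (MulAut.conj g).toMonoidHom ≠ ⊥ →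
      g ∈ Subgroup.normalizer (J (P : Subgroup G) : Set G) := by
  set P₀ := (P : Subgroup G) with hP₀
  have hPp : IsPGroup p P₀ := P.isPGroup'
  set L₀ := Subgroup.normalizer (J P₀ : Set G)
  suffices key : ∀ k : ℕ, ∀ g : G, P₀ ⊓ P₀.map (MulAut.conj g).toMonoidHom ≠ ⊥ →
      Nat.card P₀ ≤ Nat.card (P₀ ⊓ P₀.map (MulAut.conj g).toMonoidHom : Subgroup G) + k →
      g ∈ L₀ from fun g hg => key (Nat.card P₀) g hg le_add_self
  intro k
  induction k using Nat.strong_induction_on with
  | _ k ih =>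
    intro g hg hk
    set D := P₀ ⊓ P₀.map (MulAut.conj g).toMonoidHom with hDdef
    have hDp : IsPGroup p D := hPp.to_le inf_le_left
    -- a larger intersection puts an element in `L₀`
    have big : ∀ (x : G) (Q : Subgroup G), Q ≤ P₀ → Q ≤ P₀.map (MulAut.conj x).toMonoidHom →
        Nat.card D < Nat.card Q → x ∈ L₀ := by
      intro x Q h1 h2 h3
      have h4 : Nat.card Q ≤
          Nat.card (P₀ ⊓ P₀.map (MulAut.conj x).toMonoidHom : Subgroup G) :=
        Subgroup.card_le_of_le (le_inf h1 h2)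
      have h5 : 1 ≤ Nat.card D := Nat.card_pos
      have h6 : Nat.card (P₀ ⊓ P₀.map (MulAut.conj x).toMonoidHom : Subgroup G) ≤ Nat.card P₀ :=
        Subgroup.card_le_of_le inf_le_left
      refine ih (Nat.card P₀ - Nat.card (P₀ ⊓ P₀.map (MulAut.conj x).toMonoidHom : Subgroup G))
        (by omega) x (fun h => ?_) (by omega)
      rw [h, Subgroup.card_bot] at h4 h6
      omega
    have loc : ∀ (j : ℕ) (L T D' : Subgroup G), IsPGroup p D' → D' ≠ ⊥ → D' ≤ L →
        L ≤ Subgroup.normalizer (D' : Set G) → IsMaxP p L T → T ≤ P₀ →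
        Nat.card D < Nat.card T → Nat.card P₀ ≤ Nat.card T + j → L ≤ L₀ := by
      intro j
      induction j using Nat.strong_induction_on with
      | _ j ihj =>
        intro L T D' hD' hne hDL hLD hT hTP hlt hj
        obtain ⟨hJ, -⟩ := le_normalizer_J hG hodd hsolv hpt hD' hne hDL hLD hT
        rcases eq_or_lt_of_le hTP with rfl | hTlt
        · exact hJ
        have hQ := le_inf_normalizer hPp hTlt
        set Q := P₀ ⊓ Subgroup.normalizer (T : Set G)
        have hQp : IsPGroup p Q := hPp.to_le inf_le_left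
        set L' := Subgroup.normalizer (J T : Set G)
        obtain ⟨S, hQS, hS⟩ := exists_isMaxP hQp
          (L := L') (inf_le_right.trans (normalizer_le_J T))
        set R := (S : Subgroup L').map L'.subtype
        obtain ⟨P', hP'⟩ := hS.isPGroup.exists_le_sylow
        obtain ⟨x, hx⟩ := MulAction.exists_smul_eq G P P'
        have hRx : R ≤ P₀.map (MulAut.conj x).toMonoidHom := by
          intro r hr
          have h := hP' hr
          rw [← hx] at h
          exact h
        have hQcard := card_lt_of_lt hQ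
        have hxL : x ∈ L₀ := big x Q inf_le_left (hQS.trans hRx) (hlt.trans hQcard)
        have hR' : R.map (MulAut.conj x⁻¹).toMonoidHom ≤ P₀ := by
          have := cj_le_cj (g := x⁻¹) hRx
          rwa [cj_cj, inv_mul_cancel, cj_one] at this
        have hTne : T ≠ ⊥ := by
          intro h
          rw [h, Subgroup.card_bot] at hlt
          have : 0 < Nat.card D := Nat.card_pos
          omega
        have hRcard : Nat.card T < Nat.card (R.map (MulAut.conj x⁻¹).toMonoidHom) := by
          rw [card_cj]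
          exact hQcard.trans_le (Subgroup.card_le_of_le hQS)
        have h' := ihj (Nat.card P₀ - Nat.card (R.map (MulAut.conj x⁻¹).toMonoidHom))
          (by have := Subgroup.card_le_of_le hR'; omega)
          (L'.map (MulAut.conj x⁻¹).toMonoidHom) (R.map (MulAut.conj x⁻¹).toMonoidHom)
          ((J T).map (MulAut.conj x⁻¹).toMonoidHom) ((hT.isPGroup.to_le (J_le T)).map _)
          (by
            rw [Ne, Subgroup.map_eq_bot_iff_of_injective _ (MulAut.conj x⁻¹).injective]
            exact J_ne_bot hTne)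
          (cj_le_cj Subgroup.le_normalizer) (Subgroup.le_normalizer_map _) (hS.cj x⁻¹) hR'
          (hlt.trans hRcard) (by omega)
        intro l hl
        have h2 : x⁻¹ * l * x ∈ L₀ := h' (mem_cj.2 (by
          simpa [mul_assoc] using hJ hl))
        have := L₀.mul_mem (L₀.mul_mem hxL h2) (L₀.inv_mem hxL)
        simpa [mul_assoc] using this
    by_cases hgP : P₀.map (MulAut.conj g).toMonoidHom = P₀
    · refine normalizer_le_J P₀ (Subgroup.mem_normalizer_iff.2 fun y => ?_)
      conv_rhs => rw [← hgP, mem_cj]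
      simp [mul_assoc]
    have hD1 : D < P₀ := lt_of_le_of_ne inf_le_left fun h => hgP
      (Subgroup.eq_of_le_of_card_ge (inf_eq_left.1 h) (card_cj g P₀).le).symm
    have hD2 : D < P₀.map (MulAut.conj g).toMonoidHom := lt_of_le_of_ne inf_le_right fun h => hgP
      (Subgroup.eq_of_le_of_card_ge (inf_eq_right.1 h) (card_cj g P₀).ge)
    set L := Subgroup.normalizer (D : Set G) with hLdef
    have hQ1 := le_inf_normalizer hPp hD1
    have hQ2 := le_inf_normalizer (hPp.map _) hD2
    obtain ⟨S₁, hQS1, hS1⟩ := exists_isMaxP (p := p) (hPp.to_le (inf_le_left :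
      P₀ ⊓ L ≤ P₀)) (L := L) inf_le_right
    obtain ⟨S₂, hQS2, hS2⟩ := exists_isMaxP (p := p) ((hPp.map _).to_le (inf_le_left :
      P₀.map (MulAut.conj g).toMonoidHom ⊓ L ≤ P₀.map (MulAut.conj g).toMonoidHom))
      (L := L) inf_le_right
    set R₁ := (S₁ : Subgroup L).map L.subtype
    set R₂ := (S₂ : Subgroup L).map L.subtype
    obtain ⟨⟨n, hnL⟩, hn⟩ := MulAction.exists_smul_eq L S₁ S₂
    have hR12 : R₁.map (MulAut.conj n).toMonoidHom = R₂ := by
      ext y
      simp only [mem_cj, R₁, R₂]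
      constructor
      · rintro ⟨z, hz, hze⟩
        refine ⟨⟨n, hnL⟩ * z * (⟨n, hnL⟩ : L)⁻¹, ?_, ?_⟩
        · rw [← hn]
          exact ⟨z, hz, rfl⟩
        · simp only [Subgroup.coe_subtype] at hze
          simp [hze, mul_assoc]
      · rintro ⟨z, hz, rfl⟩
        rw [← hn] at hz
        obtain ⟨w, hw, rfl⟩ := hz
        exact ⟨w, hw, by simp [mul_assoc]⟩
    obtain ⟨P₁, hP1⟩ := hS1.isPGroup.exists_le_sylow
    obtain ⟨a, ha⟩ := MulAction.exists_smul_eq G P P₁
    have hR1a : R₁ ≤ P₀.map (MulAut.conj a).toMonoidHom := by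
      intro r hr
      have h := hP1 hr
      rw [← ha] at h
      exact h
    obtain ⟨P₂, hP2⟩ := hS2.isPGroup.exists_le_sylow
    obtain ⟨b, hb⟩ := MulAction.exists_smul_eq G P P₂
    have hR2b : R₂ ≤ P₀.map (MulAut.conj b).toMonoidHom := by
      intro r hr
      have h := hP2 hr
      rw [← hb] at h
      exact h
    have haL : a ∈ L₀ := big a _ inf_le_left (hQS1.trans hR1a) (card_lt_of_lt hQ1)
    have hgb : g⁻¹ * b ∈ L₀ := by
      refine big _ ((P₀.map (MulAut.conj g).toMonoidHom ⊓ L).map (MulAut.conj g⁻¹).toMonoidHom)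
        ?_ ?_ (by rw [card_cj]; exact card_lt_of_lt hQ2)
      · refine (cj_le_cj (g := g⁻¹) inf_le_left).trans (le_of_eq ?_)
        rw [cj_cj, inv_mul_cancel, cj_one]
      · rw [← cj_cj]
        exact cj_le_cj (hQS2.trans hR2b)
    have hR1card : Nat.card D < Nat.card R₁ :=
      (card_lt_of_lt hQ1).trans_le (Subgroup.card_le_of_le hQS1)
    have hnL₀ : n ∈ L₀ := by
      have hT' : R₁.map (MulAut.conj a⁻¹).toMonoidHom ≤ P₀ := by
        have := cj_le_cj (g := a⁻¹) hR1a
        rwa [cj_cj, inv_mul_cancel, cj_one] at this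
      have hle : L.map (MulAut.conj a⁻¹).toMonoidHom ≤ L₀ :=
        loc (Nat.card P₀) _ _ (D.map (MulAut.conj a⁻¹).toMonoidHom) (hDp.map _)
          (by rw [Ne, Subgroup.map_eq_bot_iff_of_injective _ (MulAut.conj a⁻¹).injective]; exact hg)
          (cj_le_cj Subgroup.le_normalizer) (Subgroup.le_normalizer_map _) (hS1.cj a⁻¹) hT'
          (by rw [card_cj]; exact hR1card) le_add_self
      have h2 : a⁻¹ * n * a ∈ L₀ := hle (mem_cj.2 (by simpa [mul_assoc] using hnL))
      have := L₀.mul_mem (L₀.mul_mem haL h2) (L₀.inv_mem haL)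
      simpa [mul_assoc] using this
    have hnab : (n * a)⁻¹ * b ∈ L₀ := by
      refine big _ (R₂.map (MulAut.conj (n * a)⁻¹).toMonoidHom) ?_ ?_ ?_
      · rw [← hR12, cj_cj]
        refine (cj_le_cj hR1a).trans (le_of_eq ?_)
        rw [cj_cj, show (n * a)⁻¹ * n * a = 1 by group, cj_one]
      · rw [← cj_cj]
        exact cj_le_cj hR2b
      · rw [card_cj, ← hR12, card_cj]
        exact hR1card
    have := L₀.mul_mem (L₀.mul_mem (L₀.mul_mem hnL₀ haL) hnab) (L₀.inv_mem hgb)
    simpa [mul_assoc] using this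

/-- The Sylow subgroup is a trivial intersection set containing the centralisers of its elements. -/
theorem centIn_sylow (P : Sylow p G) (hP : (P : Subgroup G) ≠ ⊥) : CentIn (P : Subgroup G) := by
  classical
  set P₀ := (P : Subgroup G)
  have hPp : IsPGroup p P₀ := P.isPGroup'
  set L₀ := Subgroup.normalizer (J P₀ : Set G)
  have hJne := J_ne_bot hP
  have hJp : IsPGroup p (J P₀) := hPp.to_le (J_le P₀)
  have hPL : P₀ ≤ L₀ := Subgroup.le_normalizer.trans (normalizer_le_J P₀)
  have hmax : IsMaxP p L₀ P₀ :=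
    ⟨hPL, hPp, fun Q hQ h _ => P.is_maximal' hQ h⟩
  obtain ⟨-, h | h⟩ := le_normalizer_J hG hodd hsolv hpt hJp hJne
    Subgroup.le_normalizer (le_refl L₀) hmax
  · intro x hx hx1
    have hC := hpt x hx1 (hPp.to_le (Subgroup.zpowers_le.2 hx))
    obtain ⟨P', hP'⟩ := hC.exists_le_sylow
    obtain ⟨g, hg⟩ := MulAction.exists_smul_eq G P P'
    have hxg : x ∈ P₀.map (MulAut.conj g).toMonoidHom := by
      have h1 := hP' (self_mem_cent x)
      rw [← hg] at h1
      exact h1
    have hgL : g ∈ L₀ := mem_of_inf_ne_bot hG hodd hsolv hpt P hP g fun e => hx1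
      (Subgroup.mem_bot.1 (e ▸ Subgroup.mem_inf.2 ⟨hx, hxg⟩))
    have hgN := h hgL
    intro y hy
    have h1 := hP' hy
    rw [← hg] at h1
    have h2 : g⁻¹ * y * g ∈ P₀ := mem_cj.1 h1
    simpa [mul_assoc] using (Subgroup.mem_normalizer_iff.1 hgN _).1 h2
  · exfalso
    apply h
    intro x hx
    haveI : L₀.FiniteIndex := inferInstance
    set φ : L₀ →* Abelianization L₀ := Abelianization.of
    haveI : Fintype (Quotient (MulAction.orbitRel (Subgroup.zpowers x) (G ⧸ L₀))) := Fintype.ofFinite _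
    have hv := SmallSimple.Basic.hom_eq_one hG (MonoidHom.transfer φ) x
    rw [MonoidHom.transfer_eq_prod_quotient_orbitRel_zpowers_quot] at hv
    have hxL : x ∈ L₀ := hPL hx
    have hone : (x • (QuotientGroup.mk 1 : G ⧸ L₀)) = QuotientGroup.mk 1 := by
      show QuotientGroup.mk (x * 1) = _
      rw [QuotientGroup.eq]
      simpa using L₀.inv_mem hxL
    set q₀ : Quotient (MulAction.orbitRel (Subgroup.zpowers x) (G ⧸ L₀)) :=
      Quotient.mk'' (QuotientGroup.mk 1) with hq₀
    have hout : q₀.out = QuotientGroup.mk 1 := by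
      have h1 : MulAction.orbitRel (Subgroup.zpowers x) (G ⧸ L₀) q₀.out (QuotientGroup.mk 1) :=
        Quotient.exact (Quotient.out_eq q₀)
      rw [MulAction.orbitRel_apply] at h1
      obtain ⟨⟨y, hy⟩, hye⟩ := h1
      rw [← hye]
      show QuotientGroup.mk (y * 1) = _
      rw [QuotientGroup.eq]
      simpa using L₀.inv_mem ((Subgroup.zpowers_le.2 hxL) hy)
    rw [Finset.prod_eq_single q₀] at hv
    · have hmin : Function.minimalPeriod (x • ·) q₀.out = 1 := by
        rw [Function.minimalPeriod_eq_one_iff_isFixedPt, hout]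
        exact hone
      have hg0 : q₀.out.out ∈ L₀ := by
        have h1 : (QuotientGroup.mk (q₀.out.out) : G ⧸ L₀) = QuotientGroup.mk 1 := by
          rw [QuotientGroup.out_eq', hout]
        simpa using L₀.inv_mem (show (q₀.out.out)⁻¹ * 1 ∈ L₀ from QuotientGroup.eq.1 h1)
      have h2 : φ ⟨x, hxL⟩ = 1 := by
        refine Eq.trans ?_ hv
        rw [show (⟨q₀.out.out⁻¹ * x ^ Function.minimalPeriod (x • ·) q₀.out * q₀.out.out, _⟩ : L₀) =
          (⟨q₀.out.out, hg0⟩ : L₀)⁻¹ * ⟨x, hxL⟩ * ⟨q₀.out.out, hg0⟩ from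
            Subtype.ext (by simp [hmin]), map_mul, map_mul, map_inv, mul_comm (φ _)⁻¹,
          inv_mul_cancel_right]
      refine ⟨⟨x, hxL⟩, ?_, rfl⟩
      rw [← Abelianization.ker_of]
      exact h2
    · intro q _ hq
      set k := Function.minimalPeriod (x • ·) q.out
      have hg : q.out.out ∉ L₀ := by
        intro hg
        apply hq
        have h1 : q.out = QuotientGroup.mk 1 := by
          rw [← QuotientGroup.out_eq' q.out, QuotientGroup.eq]
          simpa using L₀.inv_mem hg
        rw [← Quotient.out_eq q, h1]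
      have hy := QuotientGroup.out_conj_pow_minimalPeriod_mem L₀ x q.out
      by_cases hxk : x ^ k = 1
      · rw [show (⟨_, hy⟩ : L₀) = 1 from Subtype.ext (by simp [k, hxk]), map_one]
      exfalso
      apply hg
      have hyp : IsPGroup p (Subgroup.zpowers (q.out.out⁻¹ * x ^ k * q.out.out)) := by
        refine ((hPp.map (MulAut.conj q.out.out⁻¹).toMonoidHom).to_le ?_)
        rw [Subgroup.zpowers_le, mem_cj]
        simpa [mul_assoc] using pow_mem hx k
      obtain ⟨S, hyS, hS⟩ := exists_isMaxP hyp (L := L₀) (Subgroup.zpowers_le.2 hy)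
      obtain ⟨S', hS'⟩ := hmax.exists_sylow
      obtain ⟨⟨l, hl⟩, hlS⟩ := MulAction.exists_smul_eq L₀ S' S
      have hmem : q.out.out⁻¹ * x ^ k * q.out.out ∈ P₀.map (MulAut.conj l).toMonoidHom := by
        have h1 := hyS (Subgroup.mem_zpowers _)
        rw [← hlS] at h1
        obtain ⟨z, hz, hze⟩ := h1
        obtain ⟨w, hw, rfl⟩ := hz
        refine ⟨w, hS' ▸ Subgroup.mem_map_of_mem L₀.subtype hw, ?_⟩
        rw [← hze]
        simp
      have h2 : q.out.out * l ∈ L₀ :=
        mem_of_inf_ne_bot hG hodd hsolv hpt P hP _ fun e => hxk (Subgroup.mem_bot.1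
          (e ▸ Subgroup.mem_inf.2 ⟨pow_mem hx k, mem_cj.2 (by
            have := mem_cj.1 hmem
            simpa [mul_assoc] using this)⟩))
      simpa using L₀.mul_mem h2 (L₀.inv_mem hl)
    · intro h0
      exact absurd (Finset.mem_univ q₀) h0

end Cfsg.Agent.CN
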