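import Mathlib
import Cfsg.Agent.Lib.CN.Local
import Cfsg.Agent.Lib.CN.Count
import Cfsg.Agent.Lib.Characters.Frobenius
import Cfsg.Agent.Lib.Cores.Fitting

/-!
# The Feit–Hall–Thompson theorem: CN-groups of odd order are solvable
-/

set_option linter.style.haveILetI false
set_option linter.unusedSectionVars false

namespace Cfsg.Agent.CN

open Cfsg.Agent.Characters
open scoped Pointwise

universe u

variable {G : Type u} [Group G]

theorem isCNGroup_subgroup (h : Cfsg.IsCNGroup G) (H : Subgroup G) : Cfsg.IsCNGroup H := by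
  intro x hx
  have hle : (Subgroup.centralizer ({x} : Set H)).map H.subtype ≤
      Subgroup.centralizer ({(x : G)} : Set G) := by
    rintro _ ⟨y, hy, rfl⟩
    exact mem_cent_iff.2 (congrArg Subtype.val (mem_cent_iff.1 hy))
  haveI := isNilpotent_le hle (h _ fun e => hx (Subtype.ext e))
  exact Group.nilpotent_of_mulEquiv
    (Subgroup.equivMapOfInjective _ H.subtype H.subtype_injective).symm

theorem exists_centMax [Finite G] (hCN : Cfsg.IsCNGroup G)
    (hloc : ∀ p : ℕ, p.Prime → PType p G → ∀ P : Sylow p G, (P : Subgroup G) ≠ ⊥ →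
      CentIn (P : Subgroup G)) {g : G} (hg : g ≠ 1) :
    ∃ M : Subgroup G, CentMax M ∧ g ∈ M := by
  obtain ⟨p, hp, hpd⟩ := Nat.exists_prime_and_dvd (mt orderOf_eq_one_iff.1 hg)
  haveI := Fact.mk hp
  set x := g ^ (orderOf g / p)
  have hox : orderOf x = p := orderOf_pow_orderOf_div (orderOf_pos g).ne' hpd
  have hx1 : x ≠ 1 := fun h => hp.ne_one (by rw [← hox, h, orderOf_one])
  obtain ⟨P, hP⟩ := (IsPGroup.of_card (p := p) (G := Subgroup.zpowers x) (n := 1)
    (by rw [Nat.card_zpowers, hox, pow_one])).exists_le_sylow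
  have hxP : x ∈ P := hP (Subgroup.mem_zpowers x)
  have hPne : (P : Subgroup G) ≠ ⊥ := fun h => hx1 (Subgroup.mem_bot.1 (h ▸ hxP))
  have hgx : g ∈ Subgroup.centralizer ({x} : Set G) :=
    mem_cent_iff.2 ((Commute.refl g).pow_right _).eq
  obtain ⟨z, hzP, hz, hzc⟩ := exists_central hPne
  rcases centIn_or_pType hCN hzP hz hzc with h | h
  · refine ⟨_, ⟨hCN z hz, fun e => hz (Subgroup.mem_bot.1 (e ▸ self_mem_cent z)), h⟩, ?_⟩
    exact h x (mem_cent_iff.2 (hzc x hxP)) hx1 hgx
  · exact ⟨_, ⟨P.isPGroup'.isNilpotent, hPne, hloc p hp h P hPne⟩,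
      hloc p hp h P hPne x hxP hx1 hgx⟩

/-- There is no non-abelian simple CN-group of odd order with all proper subgroups solvable. -/
theorem simple_false [Finite G] [IsSimpleGroup G] (hG : ¬ IsMulCommutative G)
    (hodd : Odd (Nat.card G)) (hCN : Cfsg.IsCNGroup G)
    (hsolv : ∀ H : Subgroup G, H ≠ ⊤ → Group.IsSolvable H) : False := by
  refine count_false hodd (fun g hg => exists_centMax hCN (fun p hp hpt P hP =>
    haveI := Fact.mk hp
    centIn_sylow hG hodd hsolv hpt P hP) hg) (fun M hM hNM => ?_) (fun χ hne h1 => hne ?_)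
  · have hMtop : M ≠ ⊤ := by
      intro h
      haveI : Group.IsNilpotent G := by
        haveI : Group.IsNilpotent (⊤ : Subgroup G) := h ▸ hM.nil
        exact Group.nilpotent_of_mulEquiv Subgroup.topEquiv
      exact Group.IsNilpotent.center_ne_bot G (SmallSimple.Basic.center_eq_bot hG)
    have hF : Cfsg.IsFrobeniusComplement M := by
      refine ⟨hM.ne_bot, hMtop, fun g hg => ?_⟩
      rw [Subgroup.eq_bot_iff_forall]
      intro y hy
      obtain ⟨hy1, hy2⟩ := Subgroup.mem_inf.1 hy
      by_contra hne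
      apply hg
      rw [← hNM]
      rw [Subgroup.mem_pointwise_smul_iff_inv_smul_mem] at hy2
      exact hM.mem_normalizer hy1 hne (by simpa [mul_assoc] using hy2)
    obtain ⟨K, -, hKn, hK⟩ := frobenius_kernel_theorem hF
    rcases hKn.eq_bot_or_eq_top with h | h
    · exact hMtop (Subgroup.isComplement'_bot_left.1 (h ▸ hK))
    · exact hM.ne_bot (Subgroup.isComplement'_top_left.1 (h ▸ hK))
  · refine Subtype.ext (funext fun g => ?_)
    have h2 := SmallSimple.Basic.hom_eq_one hG (linearOfDegreeOne (irr_isCharacter χ) h1) g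
    exact congrArg (fun u : ℂˣ => (u : ℂ)) h2

/-- Modulo `O_p`, a CN-group with `p`-group centralisers of `p`-elements is a CN-group. -/
theorem isCNGroup_quotient [Finite G] (hCN : Cfsg.IsCNGroup G) {p : ℕ} [hp : Fact p.Prime]
    (hpt : PType p G) (U : Subgroup G) [U.Normal] (hU : IsPGroup p U) :
    Cfsg.IsCNGroup (G ⧸ U) := by
  have hfix : ∀ {r : ℕ}, r.Prime → r ≠ p → ∀ w : G, orderOf w = r → ∀ y : G,
      (QuotientGroup.mk y : G ⧸ U) * QuotientGroup.mk w = QuotientGroup.mk w * QuotientGroup.mk y →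
      ∃ u ∈ U, u⁻¹ * y * w = w * (u⁻¹ * y) := by
    intro r hr hrp w how y hyw
    have hw1 : w ≠ 1 := fun h => hr.ne_one (by rw [← how, h, orderOf_one])
    have hnp : ¬ IsPGroup p (Subgroup.zpowers w) := by
      intro h
      obtain ⟨k, hk⟩ := IsPGroup.iff_card.1 h
      rw [Nat.card_zpowers, how] at hk
      exact hrp ((Nat.prime_dvd_prime_iff_eq hr hp.out).1 (hr.dvd_of_dvd_pow (dvd_of_eq hk)))
    let f : U → U := fun u => ⟨(u : G) * w * (u : G)⁻¹ * w⁻¹, by
      have h1 : w * (u : G)⁻¹ * w⁻¹ ∈ U := Subgroup.Normal.conj_mem inferInstance _ (U.inv_mem u.2) w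
      simpa [mul_assoc] using U.mul_mem u.2 h1⟩
    have hf : Function.Injective f := by
      intro a b hab
      have h1 : (a : G) * w * (a : G)⁻¹ = (b : G) * w * (b : G)⁻¹ :=
        mul_right_cancel (congrArg Subtype.val hab)
      by_contra hne
      apply hnp
      refine hpt.isPGroup_of_commute (x := (b : G)⁻¹ * a) (fun h => hne (Subtype.ext
        (inv_mul_eq_one.1 h).symm)) (hU.to_le (Subgroup.zpowers_le.2 (U.mul_mem (U.inv_mem b.2) a.2))) ?_
      calc w * ((b : G)⁻¹ * a) = (b : G)⁻¹ * ((b : G) * w * (b : G)⁻¹) * a := by group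
        _ = (b : G)⁻¹ * a * w := by rw [← h1]; group
    have hc : y * w * y⁻¹ * w⁻¹ ∈ U := by
      rw [← QuotientGroup.eq_one_iff]
      simp only [QuotientGroup.mk_mul, QuotientGroup.mk_inv, hyw]
      group
    obtain ⟨u, hu⟩ := (Finite.injective_iff_surjective.1 hf) ⟨_, hc⟩
    refine ⟨u, u.2, ?_⟩
    have h1 : (u : G) * w * (u : G)⁻¹ = y * w * y⁻¹ := mul_right_cancel (congrArg Subtype.val hu)
    calc (u : G)⁻¹ * y * w = (u : G)⁻¹ * (y * w * y⁻¹) * y := by group
      _ = w * ((u : G)⁻¹ * y) := by rw [← h1]; group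
  -- a prime-to-`p` element of the quotient lifts
  have hlift : ∀ (xb : G ⧸ U) {r : ℕ}, r.Prime → r ≠ p → r ∣ orderOf xb →
      ∃ w : G, orderOf w = r ∧ ∀ yb : G ⧸ U, yb * xb = xb * yb →
        yb * QuotientGroup.mk w = QuotientGroup.mk w * yb := by
    intro xb r hr _ hdvd
    obtain ⟨g, rfl⟩ := QuotientGroup.mk_surjective xb
    have hdvd' : r ∣ orderOf g := hdvd.trans (orderOf_map_dvd (QuotientGroup.mk' U) g)
    refine ⟨g ^ (orderOf g / r), orderOf_pow_orderOf_div (orderOf_pos g).ne' hdvd', fun yb hy => ?_⟩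
    rw [QuotientGroup.mk_pow]
    exact (Commute.pow_right hy _).eq
  intro xb hxb
  by_cases hr : ∃ r : ℕ, r.Prime ∧ r ≠ p ∧ r ∣ orderOf xb
  · obtain ⟨r, hr, hrp, hdvd⟩ := hr
    obtain ⟨w, how, hw⟩ := hlift xb hr hrp hdvd
    have hw1 : w ≠ 1 := fun h => hr.ne_one (by rw [← how, h, orderOf_one])
    haveI := hCN w hw1
    haveI : Group.IsNilpotent ((Subgroup.centralizer ({w} : Set G)).map (QuotientGroup.mk' U)) :=
      Group.nilpotent_of_surjective _
        ((QuotientGroup.mk' U).subgroupMap_surjective (Subgroup.centralizer ({w} : Set G)))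
    refine isNilpotent_le (L := (Subgroup.centralizer ({w} : Set G)).map (QuotientGroup.mk' U))
      (fun yb hyb => ?_) inferInstance
    obtain ⟨y, rfl⟩ := QuotientGroup.mk_surjective yb
    obtain ⟨u, hu, huy⟩ := hfix hr hrp w how y (hw _ (mem_cent_iff.1 hyb))
    refine ⟨u⁻¹ * y, mem_cent_iff.2 huy, ?_⟩
    simp [(QuotientGroup.eq_one_iff u).2 hu]
  · push Not at hr
    have hxp : ∃ k, orderOf xb = p ^ k :=
      ⟨_, Nat.eq_prime_pow_of_unique_prime_dvd (orderOf_pos xb).ne' fun {d} hd hdvd => by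
        by_contra h; exact hr d hd h hdvd⟩
    refine IsPGroup.isNilpotent (p := p) ?_
    rw [IsPGroup.iff_orderOf]
    intro t
    by_contra hcon
    obtain ⟨r, hrr, hrp, hdvd⟩ : ∃ r, r.Prime ∧ r ≠ p ∧ r ∣ orderOf (t : G ⧸ U) := by
      by_contra h
      push Not at h
      refine hcon ⟨_, (Subgroup.orderOf_coe t).symm.trans
        (Nat.eq_prime_pow_of_unique_prime_dvd (orderOf_pos _).ne' fun {d} hd hdvd => ?_)⟩
      by_contra h'; exact h d hd h' hdvd
    obtain ⟨w, how, hw⟩ := hlift (t : G ⧸ U) hrr hrp hdvd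
    obtain ⟨x, hx⟩ := QuotientGroup.mk_surjective xb
    obtain ⟨u, hu, hux⟩ := hfix hrr hrp w how x (by
      rw [hx]; exact hw xb (mem_cent_iff.1 t.2).symm)
    set x' := u⁻¹ * x
    have hx' : (QuotientGroup.mk x' : G ⧸ U) = xb := by
      simp [x', (QuotientGroup.eq_one_iff u).2 hu, hx]
    obtain ⟨i, m, hm, hmeq⟩ : ∃ i m, ¬ p ∣ m ∧ orderOf x' = p ^ i * m :=
      Nat.exists_eq_pow_mul_and_not_dvd (orderOf_pos x').ne' p hp.out.ne_one
    have hmo : orderOf (x' ^ m) = p ^ i := by
      rw [orderOf_pow, hmeq, Nat.gcd_mul_left_left, Nat.mul_div_cancel _ (Nat.pos_of_ne_zero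
        fun h => hm (by rw [h]; exact dvd_zero p))]
    have hne : x' ^ m ≠ 1 := by
      intro h
      have h1 : xb ^ m = 1 := by rw [← hx', ← QuotientGroup.mk_pow, h, QuotientGroup.mk_one]
      obtain ⟨k, hk⟩ := hxp
      exact hxb (orderOf_eq_one_iff.1 (Nat.eq_one_of_dvd_coprimes
        (((hp.out.coprime_iff_not_dvd.2 hm).pow_left k))
        (hk ▸ dvd_rfl) (orderOf_dvd_of_pow_eq_one h1)))
    have hwp := hpt.isPGroup_of_commute hne (IsPGroup.of_card (n := i)
      (by rw [Nat.card_zpowers, hmo])) (Commute.pow_right (show Commute w x' from hux.symm) m).eq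
    obtain ⟨k, hk⟩ := IsPGroup.iff_card.1 hwp
    rw [Nat.card_zpowers, how] at hk
    exact hrp ((Nat.prime_dvd_prime_iff_eq hrr hp.out).1 (hrr.dvd_of_dvd_pow (dvd_of_eq hk)))

/-- **Feit–Hall–Thompson**: a CN-group of odd order is solvable. -/
theorem isSolvable_of_odd_cn : ∀ (n : ℕ) (G : Type u) [Group G] [Finite G], Nat.card G = n →
    Odd (Nat.card G) → Cfsg.IsCNGroup G → Group.IsSolvable G := by
  intro n
  induction n using Nat.strong_induction_on with
  | _ n ih =>
    intro G _ _ hn hodd hCN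
    subst hn
    have hsub : ∀ H : Subgroup G, H ≠ ⊤ → Group.IsSolvable H := by
      intro H hH
      refine ih (Nat.card H) (lt_of_le_of_ne (Subgroup.card_le_card_group H)
        fun h => hH ((Subgroup.card_eq_iff_eq_top H).1 h)) H rfl ?_ (isCNGroup_subgroup hCN H)
      obtain ⟨c, hc⟩ := Subgroup.card_subgroup_dvd_card H
      exact (Nat.odd_mul.1 (hc ▸ hodd)).1
    rcases subsingleton_or_nontrivial G with hs | hs
    · infer_instance
    by_cases hsimple : IsSimpleGroup G
    · by_cases hG : IsMulCommutative G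
      · exact Group.isSolvable_of_comm fun a b => mul_comm' a b
      · exact (simple_false hG hodd hCN hsub).elim
    obtain ⟨N, hN, hN1, hN2⟩ : ∃ N : Subgroup G, N.Normal ∧ N ≠ ⊥ ∧ N ≠ ⊤ := by
      by_contra h
      push Not at h
      exact hsimple ⟨fun N hN => or_iff_not_imp_left.2 (h N hN)⟩
    haveI := hN
    haveI := hsub N hN2
    haveI : Nontrivial N := (Subgroup.nontrivial_iff_ne_bot _).2 hN1
    have hFne : Cfsg.fittingSubgroup N ≠ ⊥ := Cores.fittingSubgroup_ne_bot
    haveI hFnil : Group.IsNilpotent (Cfsg.fittingSubgroup N) := Cores.fittingSubgroup_isNilpotent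
    have hFtop : (Cfsg.fittingSubgroup N) ≠ ⊥ := hFne
    haveI : Nontrivial (Cfsg.fittingSubgroup N) := (Subgroup.nontrivial_iff_ne_bot _).2 hFne
    obtain ⟨p, hp, hpd⟩ := Nat.exists_prime_and_dvd
      (Finite.one_lt_card (α := Cfsg.fittingSubgroup N)).ne'
    haveI := Fact.mk hp
    set A := (Cfsg.fittingSubgroup N).map N.subtype with hA
    haveI hAn : A.Normal := ConjAct.normal_of_characteristic_of_normal
    have hAnil : Group.IsNilpotent A :=
      Group.nilpotent_of_mulEquiv (Subgroup.equivMapOfInjective _ _ N.subtype_injective)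
    have hAcard : p ∣ Nat.card A := by
      rw [hA, Subgroup.card_map_of_injective N.subtype_injective]; exact hpd
    set U := Cfsg.pCore p G with hUdef
    have hUne : U ≠ ⊥ := by
      haveI := hAnil
      obtain ⟨S⟩ : Nonempty (Sylow p A) := inferInstance
      haveI : (S : Subgroup A).Normal :=
        (Group.isNilpotent_of_finite_tfae.out 0 3 rfl rfl).1 hAnil p inferInstance S
      have h1 : ((S : Subgroup A).map A.subtype) ≤ U :=
        (Subgroup.map_mono (PLocal.Cores.le_pCore S.isPGroup')).trans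
          (PLocal.Cores.map_subtype_pCore_le A)
      intro h
      rw [h, le_bot_iff, Subgroup.map_eq_bot_iff_of_injective _ A.subtype_injective] at h1
      have h2 := S.dvd_card_of_dvd_card hAcard
      rw [h1, Subgroup.card_bot] at h2
      exact hp.ne_one (Nat.dvd_one.1 h2)
    haveI : U.Normal := Cfsg.pCore_normal p G
    have hUp : IsPGroup p U := PLocal.Cores.isPGroup_pCore
    obtain ⟨P⟩ : Nonempty (Sylow p G) := inferInstance
    have hUP : U ≤ P := PLocal.Cores.pCore_le_sylow P
    obtain ⟨z, hzP, hz, hzc⟩ := exists_central (P := P) fun h => hUne (le_bot_iff.1 (h ▸ hUP))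
    rcases centIn_or_pType hCN hzP hz hzc with h | h
    · set M := Subgroup.centralizer ({z} : Set G)
      have hM : CentMax M := ⟨hCN z hz, fun e => hz (Subgroup.mem_bot.1 (e ▸ self_mem_cent z)), h⟩
      have hUM : U ≤ M := fun u hu => mem_cent_iff.2 (hzc u (hUP hu))
      haveI hMn : M.Normal := by
        rw [← Subgroup.normalizer_eq_top_iff]
        refine eq_top_iff.2 fun g _ => ?_
        obtain ⟨⟨u, hu⟩, hu1⟩ := Subgroup.ne_bot_iff_exists_ne_one.1 hUne
        refine hM.mem_normalizer (hUM hu) (fun e => hu1 (Subtype.ext e)) ?_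
        exact hUM (by simpa using (Cfsg.pCore_normal p G).conj_mem u hu g⁻¹)
      by_cases hMtop : M = ⊤
      · haveI : Group.IsNilpotent (⊤ : Subgroup G) := hMtop ▸ hM.nil
        haveI : Group.IsNilpotent G := Group.nilpotent_of_mulEquiv Subgroup.topEquiv
        infer_instance
      haveI := hM.nil
      obtain ⟨H, hH⟩ := Subgroup.exists_right_complement'_of_coprime
        (coprime_index_cent hCN hzP hz hzc)
      have hHtop : H ≠ ⊤ := fun e => hM.ne_bot (Subgroup.isComplement'_top_right.1 (e ▸ hH))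
      haveI := hsub H hHtop
      have hsurj : Function.Surjective ((QuotientGroup.mk' M).comp H.subtype) := by
        intro q
        obtain ⟨g, rfl⟩ := QuotientGroup.mk'_surjective M q
        obtain ⟨⟨m, k⟩, hmk⟩ := hH.2 g
        refine ⟨k, ?_⟩
        show QuotientGroup.mk' M (k : G) = QuotientGroup.mk' M g
        rw [← hmk, map_mul]
        simp
      haveI : Group.IsSolvable (G ⧸ M) := Group.isSolvable_of_surjective hsurj
      exact Group.isSolvable_of_ker_le_range M.subtype (QuotientGroup.mk' M)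
        (by rw [QuotientGroup.ker_mk', Subgroup.range_subtype])
    · have hlt : Nat.card (G ⧸ U) < Nat.card G := by
        have h1 := U.card_mul_index
        rw [Subgroup.index_eq_card] at h1
        have h2 : 1 < Nat.card U := by
          haveI : Nontrivial U := (Subgroup.nontrivial_iff_ne_bot _).2 hUne
          exact Finite.one_lt_card
        have : 0 < Nat.card (G ⧸ U) := Nat.card_pos
        nlinarith
      haveI : Group.IsSolvable (G ⧸ U) := ih _ hlt (G ⧸ U) rfl (by
        have h1 := U.card_mul_index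
        rw [Subgroup.index_eq_card] at h1
        exact (Nat.odd_mul.1 (h1 ▸ hodd)).2) (isCNGroup_quotient hCN h U hUp)
      haveI : Group.IsNilpotent U := hUp.isNilpotent
      exact Group.isSolvable_of_ker_le_range U.subtype (QuotientGroup.mk' U)
        (by rw [QuotientGroup.ker_mk', Subgroup.range_subtype])

end Cfsg.Agent.CN

namespace Cfsg.Agent.CN

/-- A CA-group is a CN-group. -/
theorem isCNGroup_of_ca {G : Type*} [Group G]
    (hCA : ∀ x : G, x ≠ 1 → ∀ a ∈ Subgroup.centralizer ({x} : Set G),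
      ∀ b ∈ Subgroup.centralizer ({x} : Set G), a * b = b * a) : Cfsg.IsCNGroup G := by
  intro x hx
  haveI : IsMulCommutative (Subgroup.centralizer ({x} : Set G)) :=
    .of_setLike_mul_comm fun a ha b hb => hCA x hx a ha b hb
  exact Components.Fitting.isNilpotent_of_isMulCommutative _

/-- There is no minimal simple CN-group of odd order. -/
theorem not_minSimpleOdd_cn {G : Type*} [Group G] [Finite G] (hG : Cfsg.IsMinSimpleOddOrder G)
    (hCN : Cfsg.IsCNGroup G) : False := by
  obtain ⟨hodd, hsimple, hnc, hsolv⟩ := hG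
  haveI := hsimple
  exact simple_false hnc hodd hCN hsolv

end Cfsg.Agent.CN
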